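import Cfsg.Agent.H642.FongRed
import Cfsg.Agent.H669.OverCount
import Cfsg.Agent.Lib.PSolvable

/-!
# The number of characters in a block of a solvable group (for S4990)

`reduction`: for a block `B` with defect group `P` of the finite solvable group `G` there is a finite
solvable group `X` with `O_{p'}(X) = 1`, whose order has the `p`-part `#P`, and `k(B) ≤ k(X)`.
-/

set_option autoImplicit false
set_option linter.unusedSectionVars false

open Cfsg

namespace Cfsg.Agent.H448.KBlock

open Cfsg.Agent Cfsg.Agent.Characters.Core Cfsg.Agent.OddOrderCharacters.IndRes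

universe u

theorem card_le_of_ind {G : Type u} [Group G] [Fintype G] (T : Subgroup G)
    {B : Set (IrrCharacter G)} {B' : Set (IrrCharacter T)}
    (h : ∀ χ ∈ B, ∃ ψ ∈ B', (χ : G → ℂ) = indFun T (ψ : T → ℂ)) :
    Nat.card B ≤ Nat.card B' := by
  classical
  have := Fintype.ofFinite T
  have := finite_irr (G := T)
  choose f hf1 hf2 using h
  refine Nat.card_le_card_of_injective (fun χ : B => (⟨f χ χ.2, hf1 χ χ.2⟩ : B')) ?_
  intro χ χ' h1
  have h2 : f χ χ.2 = f χ' χ'.2 := congrArg Subtype.val h1
  apply Subtype.ext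
  apply Subtype.ext
  rw [hf2 χ χ.2, hf2 χ' χ'.2, h2]

theorem reduction (p : ℕ) [Fact p.Prime] (M : Ideal AlgInt) (hM : IsPModular p M) (n : ℕ) :
    ∀ (G : Type u) [Group G] [Finite G], Nat.card G ≤ n → Group.IsSolvable G →
      ∀ (B : Set (IrrCharacter G)), IsPBlock M B → ∀ (D : Subgroup G), IsDefectGroup p M B D →
      ∃ (X : Type u) (_ : Group X) (_ : Finite X),
        Group.IsSolvable X ∧ pPrimeCore p X = ⊥ ∧
        Nat.card D = p ^ (Nat.card X).factorization p ∧
        Nat.card B ≤ Nat.card (ConjClasses X) := by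
  classical
  have hp : p.Prime := Fact.out
  have hprime : M.IsPrime := Blocks.Local.isPrime_of_isPModular hM
  induction n with
  | zero =>
    intro G _ _ h
    exact absurd h (Nat.not_le.2 Nat.card_pos)
  | succ n ih =>
    intro G _ _ hcard hs B hB P hP
    have hs' : Group.IsSolvable G := hs
    have hsolv : IsPSolvable p G := Lib.PSolvable.IsPSolvable_of_solvable p
    have := Fintype.ofFinite G
    obtain ⟨χ, hχ⟩ : B.Nonempty := Blocks.Basic.isPBlock_nonempty hB
    obtain ⟨N, hNdef⟩ : ∃ N : Subgroup G, N = pPrimeCore p G := ⟨_, rfl⟩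
    have hN : N.Normal := hNdef ▸ Lib.Cores.pPrimeCore_normal p
    have hNp : ¬ p ∣ Nat.card N := by
      rw [hNdef]
      exact hp.coprime_iff_not_dvd.1 (Lib.Cores.pPrimeCore_coprime (G := G) p).symm
    have := Fintype.ofFinite N
    obtain ⟨θ, hθ⟩ := Blocks.Fong.exists_constituent N χ
    by_cases hinv : ∀ (g : G) (n : N),
        (θ : N → ℂ) ⟨g * n * g⁻¹, hN.conj_mem n n.2 g⟩ = (θ : N → ℂ) n
    · -- the invariant case
      obtain ⟨B₀, hB₀, hmem, hsyl, hdef⟩ :=
        S4492.result p M hM hsolv N hNdef θ hinv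
      have hχ₀ : χ ∈ B₀ := (hmem χ).2 hθ
      have hBB : B = B₀ := Blocks.Basic.isPBlock_eq_of_mem hB hB₀ hχ hχ₀
      subst hBB
      obtain ⟨Q, rfl⟩ := hdef P hP
      refine ⟨G ⧸ N, inferInstance, inferInstance, inferInstance, ?_, ?_, ?_⟩
      · subst hNdef
        exact Lib.Cores.pPrimeCore_quotient_pPrimeCore p
      · rw [Q.card_eq_multiplicity]
        congr 1
        have h1 := Subgroup.card_eq_card_quotient_mul_card_subgroup N
        rw [h1, Nat.factorization_mul Nat.card_pos.ne' Nat.card_pos.ne', Finsupp.add_apply,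
          Nat.factorization_eq_zero_of_not_dvd hNp, add_zero]
      · have h1 := H669.OverCount.card_over_le N θ.2 hinv
        refine le_trans (le_of_eq ?_) h1
        exact Nat.card_congr (Equiv.subtypeEquivRight hmem)
    · -- Clifford
      let b : Set (IrrCharacter N) := blockOf M (θ : N → ℂ)
      have hb : IsPBlock M b := Blocks.Basic.isPBlock_blockOf θ
      have hbs : ∀ θ' : IrrCharacter N, θ' ∈ b ↔ θ' = θ := by
        intro θ'
        constructor
        · intro h
          exact Subtype.ext (H592.Height.eq_of_sameBlock hM hNp θ.2 θ'.2 h).symm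
        · rintro rfl
          exact Blocks.Basic.mem_blockOf_self _
      set T : Subgroup G := OddOrderCharacters.PF9.CliffGen.inertia N (θ : N → ℂ) with hTdef
      have hT' : ∀ g : G, g ∈ T ↔
          ∀ h : N, (θ : N → ℂ) ⟨g * h * g⁻¹, hN.conj_mem h h.2 g⟩ = (θ : N → ℂ) h :=
        fun g => OddOrderCharacters.PF9.CliffGen.mem_inertia'
      have hst : H591.Reynolds.IsStab b T := by
        intro g
        rw [hT']
        constructor
        · intro h θ₁ hθ₁ θ' hθ'
          rw [hbs] at hθ₁ ⊢
          subst hθ₁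
          apply Subtype.ext
          funext n
          rw [hθ' n, h n]
        · intro h
          have h1 := h θ ((hbs θ).2 rfl) (Blocks.Covering.conjIrr N g θ) (fun n => by
            rw [Blocks.Covering.conjIrr_apply, H591.Reynolds.conjNormal_eq])
          rw [hbs] at h1
          intro n
          have h2 : (Blocks.Covering.conjIrr N g θ : N → ℂ) n = (θ : N → ℂ) n := by rw [h1]
          rw [Blocks.Covering.conjIrr_apply, H591.Reynolds.conjNormal_eq] at h2
          exact h2
      have hNT : N ≤ T :=
        OddOrderCharacters.PF9.CliffGen.le_inertia (isIrr_isClassFunction θ.2)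
      have hTtop : T ≠ ⊤ := by
        intro h
        apply hinv
        intro g
        exact (hT' g).1 (h ▸ Subgroup.mem_top g)
      have hTcard : Nat.card T ≤ n := by
        have h1 : Nat.card T < Nat.card G := by
          refine lt_of_le_of_ne (Nat.le_of_dvd Nat.card_pos (Subgroup.card_subgroup_dvd_card T)) ?_
          intro h
          exact hTtop (Subgroup.eq_top_of_card_eq T h)
        omega
      have := Fintype.ofFinite T
      obtain ⟨B', hB', ⟨ψ₀, hψ₀, θ₀, hθ₀, h₀⟩, hind⟩ :=
        (S4435.result p M hM N b hb T hst hNT).2.2 B hB ⟨χ, hχ, θ, (hbs θ).2 rfl, hθ⟩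
      obtain ⟨hD1, -⟩ :=
        S4436.result p M hM N b hb T hst hNT B' hB' ⟨ψ₀, hψ₀, θ₀, hθ₀, h₀⟩ B hind
      obtain ⟨D, hD⟩ := H592.Defect.exists_defectGroup p hM hB'
      obtain ⟨X, hX1, hX2, hXs, hX3, hX4, hX5⟩ :=
        ih T hTcard (inferInstance : Group.IsSolvable T) B' hB' D hD
      have hrank : Nat.card B ≤ Nat.card B' := by
        refine card_le_of_ind T fun χ hχ => ?_
        exact (H591.ReynoldsMain.mem_induced_iff p hM hb hst hNT hB' hψ₀ hθ₀ h₀ hind χ).1 hχ
      have hPD : Nat.card P = Nat.card D := by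
        obtain ⟨t, ht⟩ := H644.exists_conj_of_isDefectGroup hM hB hP (hD1 D hD)
        have e1 : P ≃* (P.map (MulAut.conj t).toMonoidHom : Subgroup G) :=
          P.equivMapOfInjective _ (MulAut.conj t).injective
        have e2 : D ≃* (D.map T.subtype : Subgroup G) :=
          D.equivMapOfInjective _ T.subtype_injective
        exact Nat.card_congr (e1.trans ((MulEquiv.subgroupCongr ht).trans e2.symm)).toEquiv
      exact ⟨X, hX1, hX2, hXs, hX3, hPD.trans hX4, hrank.trans hX5⟩

end Cfsg.Agent.H448.KBlock
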