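import Mathlib

/-!
# Arithmetic of the exponents `2 ^ i` modulo a large divisor of `2 ^ n - 1`

If `d * N = 2 ^ n - 1` with `d ∣ n`, then `2 ^ i + 2 ^ j ≡ 1`, `2 ^ t + 2 ^ j ≡ 1 + 2 ^ (t + i)` and
`2 ^ j ≡ 1` modulo `N` have only the obvious solutions.
-/

set_option autoImplicit false

namespace Cfsg.Agent.H448.SuzArith

theorem pow_add_pow_inj_aux {a b c e : ℕ} (hab : a ≤ b) (hce : c ≤ e)
    (h : 2 ^ a + 2 ^ b = 2 ^ c + 2 ^ e) : ¬ a < c := by
  intro hac
  have h1 : 2 ^ (a + 1) ∣ 2 ^ c + 2 ^ e :=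
    dvd_add (pow_dvd_pow 2 (by omega)) (pow_dvd_pow 2 (by omega))
  rw [← h] at h1
  rcases Nat.lt_or_ge a b with hlt | hge
  · have h2 : 2 ^ (a + 1) ∣ 2 ^ b := pow_dvd_pow 2 (by omega)
    have h3 : 2 ^ (a + 1) ∣ 2 ^ a := (Nat.dvd_add_left h2).mp h1
    have h4 := Nat.le_of_dvd (by positivity) h3
    have h5 : 2 ^ a < 2 ^ (a + 1) := Nat.pow_lt_pow_right (by norm_num) (by omega)
    omega
  · have hb : b = a := by omega
    subst hb
    have h2 : 2 ^ (b + 1) ≤ 2 ^ c := Nat.pow_le_pow_right (by norm_num) (by omega)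
    have h3 : 2 ^ (b + 1) ≤ 2 ^ e := Nat.pow_le_pow_right (by norm_num) (by omega)
    have h4 : 2 ^ (b + 1) = 2 * 2 ^ b := by ring
    have h5 : 0 < 2 ^ b := by positivity
    omega

theorem pow_add_pow_inj_le {a b c e : ℕ} (hab : a ≤ b) (hce : c ≤ e)
    (h : 2 ^ a + 2 ^ b = 2 ^ c + 2 ^ e) : a = c ∧ b = e := by
  have h1 := pow_add_pow_inj_aux hab hce h
  have h2 := pow_add_pow_inj_aux hce hab h.symm
  have h3 : a = c := by omega
  subst h3
  refine ⟨rfl, ?_⟩
  have h4 : 2 ^ b = 2 ^ e := by omega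
  exact Nat.pow_right_injective (le_refl 2) h4

theorem pow_add_pow_inj {a b c e : ℕ} (h : 2 ^ a + 2 ^ b = 2 ^ c + 2 ^ e) :
    (a = c ∧ b = e) ∨ (a = e ∧ b = c) := by
  rcases le_total a b with h1 | h1 <;> rcases le_total c e with h2 | h2
  · exact Or.inl (pow_add_pow_inj_le h1 h2 h)
  · exact Or.inr (pow_add_pow_inj_le h1 h2 (by omega))
  · obtain ⟨h3, h4⟩ := pow_add_pow_inj_le h1 h2 (by omega)
    exact Or.inr ⟨h4, h3⟩
  · obtain ⟨h3, h4⟩ := pow_add_pow_inj_le h1 h2 (by omega)
    exact Or.inl ⟨h4, h3⟩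

/-- The rotations which put `x` into the forbidden arc. -/
theorem card_bad (n g x : ℕ) (hg : 1 ≤ g) (hgn : g ≤ n) :
    ((Finset.range n).filter (fun t => n - g < (x + t) % n)).card ≤ g - 1 := by
  have hn : 0 < n := by omega
  have h1 : ((Finset.range n).filter (fun t => n - g < (x + t) % n)).card ≤
      (Finset.Ioo (n - g) n).card := by
    refine Finset.card_le_card_of_injOn (fun t => (x + t) % n) ?_ ?_
    · intro t ht
      simp only [Finset.coe_filter, Set.mem_ofPred_eq] at ht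
      simp only [Finset.coe_Ioo, Set.mem_Ioo]
      exact ⟨ht.2, Nat.mod_lt _ hn⟩
    · intro t ht t' ht' h
      simp only [Finset.coe_filter, Finset.mem_range, Set.mem_ofPred_eq] at ht ht'
      have h2 : x + t ≡ x + t' [MOD n] := h
      have h3 : t ≡ t' [MOD n] := Nat.ModEq.add_left_cancel' x h2
      exact Nat.ModEq.eq_of_lt_of_lt h3 ht.1 ht'.1
  rw [Nat.card_Ioo] at h1
  omega

theorem exists_rot (n g a b c e : ℕ) (hg : 1 ≤ g) (hn : 4 * (g - 1) < n) (hgn : g ≤ n) :
    ∃ t, (a + t) % n ≤ n - g ∧ (b + t) % n ≤ n - g ∧ (c + t) % n ≤ n - g ∧ (e + t) % n ≤ n - g := by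
  classical
  by_contra hcon
  push Not at hcon
  have hsub : Finset.range n ⊆
      (((Finset.range n).filter (fun t => n - g < (a + t) % n)) ∪
        ((Finset.range n).filter (fun t => n - g < (b + t) % n))) ∪
      (((Finset.range n).filter (fun t => n - g < (c + t) % n)) ∪
        ((Finset.range n).filter (fun t => n - g < (e + t) % n))) := by
    intro t ht
    simp only [Finset.mem_union, Finset.mem_filter]
    by_contra h
    push Not at h
    obtain ⟨⟨h1, h2⟩, h3, h4⟩ := h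
    have := hcon t (h1 ht) (h2 ht) (h3 ht)
    exact absurd (h4 ht) (by omega)
  have h1 := Finset.card_le_card hsub
  rw [Finset.card_range] at h1
  have h2 := card_bad n g a hg hgn
  have h3 := card_bad n g b hg hgn
  have h4 := card_bad n g c hg hgn
  have h5 := card_bad n g e hg hgn
  have h6 := Finset.card_union_le
    (((Finset.range n).filter (fun t => n - g < (a + t) % n)) ∪
        ((Finset.range n).filter (fun t => n - g < (b + t) % n)))
    (((Finset.range n).filter (fun t => n - g < (c + t) % n)) ∪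
        ((Finset.range n).filter (fun t => n - g < (e + t) % n)))
  have h7 := Finset.card_union_le
    ((Finset.range n).filter (fun t => n - g < (a + t) % n))
    ((Finset.range n).filter (fun t => n - g < (b + t) % n))
  have h8 := Finset.card_union_le
    ((Finset.range n).filter (fun t => n - g < (c + t) % n))
    ((Finset.range n).filter (fun t => n - g < (e + t) % n))
  omega

theorem two_pow_mod {n N : ℕ} (hN : N ∣ 2 ^ n - 1) (x : ℕ) : 2 ^ (x % n) ≡ 2 ^ x [MOD N] := by
  have h1 : 2 ^ n ≡ 1 [MOD N] := by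
    have h2 : 1 ≤ 2 ^ n := Nat.one_le_two_pow
    exact ((Nat.modEq_iff_dvd' h2).mpr hN).symm
  conv_rhs => rw [← Nat.mod_add_div x n]
  rw [pow_add, pow_mul]
  have h3 : (2 ^ n) ^ (x / n) ≡ 1 ^ (x / n) [MOD N] := h1.pow _
  rw [one_pow] at h3
  have h4 := h3.mul_left (2 ^ (x % n))
  rw [mul_one] at h4
  exact h4.symm

/-- Large case: sums of two powers of `2` are different modulo `N`. -/
theorem sum_inj {n d N g : ℕ} (hN : d * N = 2 ^ n - 1) (hg : 1 ≤ g) (hd : d < 2 ^ (g - 1))
    (hn : 4 * (g - 1) < n) {a b c e : ℕ} (ha : a < n) (hb : b < n) (hc : c < n) (he : e < n)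
    (h : 2 ^ a + 2 ^ b ≡ 2 ^ c + 2 ^ e [MOD N]) : (a = c ∧ b = e) ∨ (a = e ∧ b = c) := by
  have hgn : g ≤ n := by omega
  obtain ⟨t, h1, h2, h3, h4⟩ := exists_rot n g a b c e hg hn hgn
  have hdvd : N ∣ 2 ^ n - 1 := ⟨d, by rw [← hN, mul_comm]⟩
  have key : ∀ x, 2 ^ ((x + t) % n) ≡ 2 ^ x * 2 ^ t [MOD N] := by
    intro x
    rw [← pow_add]
    exact two_pow_mod hdvd _
  have h5 : 2 ^ ((a + t) % n) + 2 ^ ((b + t) % n) ≡ 2 ^ ((c + t) % n) + 2 ^ ((e + t) % n) [MOD N] := by
    have h6 := (key a).add (key b)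
    have h7 := (key c).add (key e)
    rw [← add_mul] at h6 h7
    exact h6.trans ((h.mul_right _).trans h7.symm)
  -- the two sides are equal
  have hpos : 1 ≤ 2 ^ n := Nat.one_le_two_pow
  have hle : ∀ x, x ≤ n - g → 2 ^ x ≤ 2 ^ (n - g) := fun x hx => Nat.pow_le_pow_right (by norm_num) hx
  have hbig : 2 ^ n = 2 ^ (g - 1) * (2 * 2 ^ (n - g)) := by
    rw [← pow_succ', ← pow_add]
    congr 1
    omega
  set u := 2 ^ ((a + t) % n) + 2 ^ ((b + t) % n) with hu
  set v := 2 ^ ((c + t) % n) + 2 ^ ((e + t) % n) with hv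
  have hub : u ≤ 2 * 2 ^ (n - g) := by
    have := hle _ h1; have := hle _ h2; omega
  have hvb : v ≤ 2 * 2 ^ (n - g) := by
    have := hle _ h3; have := hle _ h4; omega
  have hu1 : 1 ≤ u := by
    have : 0 < 2 ^ ((a + t) % n) := by positivity
    exact le_trans this (Nat.le_add_right _ _)
  have hv1 : 1 ≤ v := by
    have : 0 < 2 ^ ((c + t) % n) := by positivity
    exact le_trans this (Nat.le_add_right _ _)
  have hN' : ∀ w, 0 < w → w < 2 * 2 ^ (n - g) → ¬ N ∣ w := by
    intro w hw0 hw hNw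
    have h8 : N ≤ w := Nat.le_of_dvd hw0 hNw
    have h9 : d * N ≤ (2 ^ (g - 1) - 1) * (2 * 2 ^ (n - g) - 1) :=
      Nat.mul_le_mul (by omega) (by omega)
    rw [hN, hbig] at h9
    have hp1 : 0 < 2 ^ (g - 1) := by positivity
    have hp2 : 0 < 2 ^ (n - g) := by positivity
    obtain ⟨P, hP⟩ : ∃ P, 2 ^ (g - 1) = P + 1 := ⟨2 ^ (g - 1) - 1, by omega⟩
    obtain ⟨R, hR⟩ : ∃ R, 2 * 2 ^ (n - g) = R + 2 := ⟨2 * 2 ^ (n - g) - 2, by omega⟩
    rw [hP, hR] at h9
    have h10 : (P + 1) * (R + 2) - 1 = P * (R + 1) + (P + R + 1) := by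
      have : (P + 1) * (R + 2) = P * (R + 1) + (P + R + 2) := by ring
      omega
    have h11 : (P + 1 - 1) * (R + 2 - 1) = P * (R + 1) := by simp
    rw [h10, h11] at h9
    omega
  have huv : u = v := by
    rcases Nat.lt_trichotomy u v with hlt | heq | hgt
    · exfalso
      refine hN' (v - u) (by omega) (by omega) ?_
      exact (Nat.modEq_iff_dvd' hlt.le).mp h5
    · exact heq
    · exfalso
      refine hN' (u - v) (by omega) (by omega) ?_
      exact (Nat.modEq_iff_dvd' hgt.le).mp h5.symm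
  have hrot : ∀ x y, x < n → y < n → (x + t) % n = (y + t) % n → x = y := by
    intro x y hx hy hxy
    have h8 : x + t ≡ y + t [MOD n] := hxy
    exact Nat.ModEq.eq_of_lt_of_lt (Nat.ModEq.add_right_cancel' t h8) hx hy
  rcases pow_add_pow_inj huv with ⟨h8, h9⟩ | ⟨h8, h9⟩
  · exact Or.inl ⟨hrot _ _ ha hc h8, hrot _ _ hb he h9⟩
  · exact Or.inr ⟨hrot _ _ ha he h8, hrot _ _ hb hc h9⟩

theorem big_aux (k : ℕ) (r : ℕ) (hr : r < 4) : 4 * (k + 5) + 1 + r < 2 ^ (k + 5) := by
  induction k with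
  | zero => norm_num; omega
  | succ k ih =>
    have h1 : 2 ^ (k + 1 + 5) = 2 * 2 ^ (k + 5) := by ring
    rw [h1]
    omega

/-- The case distinction on `(n, d)`. -/
theorem exists_g {n d N : ℕ} (hn : 2 ≤ n) (hdn : d ∣ n) (hN : d * N = 2 ^ n - 1) :
    (∃ g, 1 ≤ g ∧ d < 2 ^ (g - 1) ∧ 4 * (g - 1) < n) ∨ (n = 2 ∧ N = 3) ∨ (n = 3 ∧ N = 7) ∨
      (n = 4 ∧ N = 15) ∨ (n = 6 ∧ N = 21) := by
  have hdle : d ≤ n := Nat.le_of_dvd (by omega) hdn
  have hd2 : d ∣ 2 ^ n - 1 := ⟨N, hN.symm⟩
  rcases Nat.lt_or_ge n 21 with h | h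
  · interval_cases n
    · -- 2
      interval_cases d <;> simp at hN hdn ⊢ <;> omega
    · interval_cases d <;> simp at hN hdn ⊢ <;> omega
    · interval_cases d <;> simp at hN hdn ⊢ <;> omega
    · refine Or.inl ⟨2, by norm_num, ?_, by norm_num⟩
      interval_cases d <;> first | (exfalso; revert hd2; decide) | (exfalso; revert hdn; decide) | norm_num
    · interval_cases d <;> first | (exfalso; revert hd2; decide) | (exfalso; revert hdn; decide) | skip
      · exact Or.inl ⟨2, by norm_num, by norm_num, by norm_num⟩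
      · right; right; right; right; exact ⟨rfl, by omega⟩
    · refine Or.inl ⟨2, by norm_num, ?_, by norm_num⟩
      interval_cases d <;> first | (exfalso; revert hd2; decide) | (exfalso; revert hdn; decide) | norm_num
    · refine Or.inl ⟨2, by norm_num, ?_, by norm_num⟩
      interval_cases d <;> first | (exfalso; revert hd2; decide) | (exfalso; revert hdn; decide) | norm_num
    · refine Or.inl ⟨3, by norm_num, ?_, by norm_num⟩
      interval_cases d <;> first | (exfalso; revert hd2; decide) | (exfalso; revert hdn; decide) | norm_num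
    · refine Or.inl ⟨3, by norm_num, ?_, by norm_num⟩
      interval_cases d <;> first | (exfalso; revert hd2; decide) | (exfalso; revert hdn; decide) | norm_num
    · refine Or.inl ⟨3, by norm_num, ?_, by norm_num⟩
      interval_cases d <;> first | (exfalso; revert hd2; decide) | (exfalso; revert hdn; decide) | norm_num
    · refine Or.inl ⟨3, by norm_num, ?_, by norm_num⟩
      interval_cases d <;> first | (exfalso; revert hd2; decide) | (exfalso; revert hdn; decide) | norm_num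
    · refine Or.inl ⟨4, by norm_num, ?_, by norm_num⟩
      interval_cases d <;> first | (exfalso; revert hd2; decide) | (exfalso; revert hdn; decide) | norm_num
    · refine Or.inl ⟨4, by norm_num, ?_, by norm_num⟩
      interval_cases d <;> first | (exfalso; revert hd2; decide) | (exfalso; revert hdn; decide) | norm_num
    · refine Or.inl ⟨4, by norm_num, ?_, by norm_num⟩
      interval_cases d <;> first | (exfalso; revert hd2; decide) | (exfalso; revert hdn; decide) | norm_num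
    · refine Or.inl ⟨4, by norm_num, ?_, by norm_num⟩
      interval_cases d <;> first | (exfalso; revert hd2; decide) | (exfalso; revert hdn; decide) | norm_num
    · refine Or.inl ⟨5, by norm_num, ?_, by norm_num⟩
      interval_cases d <;> first | (exfalso; revert hd2; decide) | (exfalso; revert hdn; decide) | norm_num
    · refine Or.inl ⟨5, by norm_num, ?_, by norm_num⟩
      interval_cases d <;> first | (exfalso; revert hd2; decide) | (exfalso; revert hdn; decide) | norm_num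
    · refine Or.inl ⟨5, by norm_num, ?_, by norm_num⟩
      interval_cases d <;> first | (exfalso; revert hd2; decide) | (exfalso; revert hdn; decide) | norm_num
    · refine Or.inl ⟨5, by norm_num, ?_, by norm_num⟩
      interval_cases d <;> first | (exfalso; revert hd2; decide) | (exfalso; revert hdn; decide) | norm_num
  · left
    obtain ⟨k, r, hr, hk⟩ : ∃ k r, r < 4 ∧ n = 4 * (k + 5) + 1 + r :=
      ⟨(n - 21) / 4, (n - 21) % 4, Nat.mod_lt _ (by norm_num), by omega⟩
    refine ⟨k + 6, by omega, ?_, by omega⟩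
    have := big_aux k r hr
    have h2 : k + 6 - 1 = k + 5 := by omega
    rw [h2]
    omega

theorem nt1 {n d N : ℕ} (hn : 2 ≤ n) (hdn : d ∣ n) (hN : d * N = 2 ^ n - 1) {i j : ℕ}
    (hi : i < n) (hj : j < n) (h : 2 ^ i + 2 ^ j ≡ 1 [MOD N]) : i = j := by
  rcases exists_g hn hdn hN with ⟨g, hg, hd, hng⟩ | ⟨rfl, rfl⟩ | ⟨rfl, rfl⟩ | ⟨rfl, rfl⟩ | ⟨rfl, rfl⟩
  · have h1 : 2 ^ (n - 1) + 2 ^ (n - 1) ≡ 1 [MOD N] := by
      have h2 : 2 ^ (n - 1) + 2 ^ (n - 1) = 2 ^ n := by
        rw [← two_mul, ← pow_succ']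
        congr 1
        omega
      rw [h2]
      have h3 : 1 ≤ 2 ^ n := Nat.one_le_two_pow
      exact ((Nat.modEq_iff_dvd' h3).mpr ⟨d, by rw [← hN, mul_comm]⟩).symm
    rcases sum_inj hN hg hd hng hi hj (by omega : n - 1 < n) (by omega : n - 1 < n)
      (h.trans h1.symm) with ⟨h4, h5⟩ | ⟨h4, h5⟩ <;> omega
  · revert h; unfold Nat.ModEq; interval_cases i <;> interval_cases j <;> decide
  · revert h; unfold Nat.ModEq; interval_cases i <;> interval_cases j <;> decide
  · revert h; unfold Nat.ModEq; interval_cases i <;> interval_cases j <;> decide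
  · revert h; unfold Nat.ModEq; interval_cases i <;> interval_cases j <;> decide

theorem nt0 {n d N : ℕ} (hn : 2 ≤ n) (hdn : d ∣ n) (hN : d * N = 2 ^ n - 1) {j : ℕ}
    (hj : j < n) (h : 2 ^ j ≡ 1 [MOD N]) : j = 0 := by
  rcases exists_g hn hdn hN with ⟨g, hg, hd, hng⟩ | ⟨rfl, rfl⟩ | ⟨rfl, rfl⟩ | ⟨rfl, rfl⟩ | ⟨rfl, rfl⟩
  · have h1 : 2 ^ j + 2 ^ 0 ≡ 2 ^ 0 + 2 ^ 0 [MOD N] := h.add_right 1
    rcases sum_inj hN hg hd hng hj (by omega : 0 < n) (by omega : 0 < n) (by omega : 0 < n)
      h1 with ⟨h4, h5⟩ | ⟨h4, h5⟩ <;> omega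
  · revert h; unfold Nat.ModEq; interval_cases j <;> decide
  · revert h; unfold Nat.ModEq; interval_cases j <;> decide
  · revert h; unfold Nat.ModEq; interval_cases j <;> decide
  · revert h; unfold Nat.ModEq; interval_cases j <;> decide

theorem nt2 {n d N : ℕ} (hn : 2 ≤ n) (hdn : d ∣ n) (hN : d * N = 2 ^ n - 1) {i j t : ℕ}
    (hi : i < n) (hj : j < n) (ht : t < n) (hi0 : i ≠ 0) (hj0 : j ≠ 0)
    (h : 2 ^ t + 2 ^ j ≡ 1 + 2 ^ (t + i) [MOD N]) : i = j := by
  rcases exists_g hn hdn hN with ⟨g, hg, hd, hng⟩ | ⟨rfl, rfl⟩ | ⟨rfl, rfl⟩ | ⟨rfl, rfl⟩ | ⟨rfl, rfl⟩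
  · have h1 : 2 ^ t + 2 ^ j ≡ 2 ^ 0 + 2 ^ ((t + i) % n) [MOD N] := by
      refine h.trans ?_
      rw [pow_zero]
      exact ((two_pow_mod ⟨d, by rw [← hN, mul_comm]⟩ (t + i)).add_left 1).symm
    rcases sum_inj hN hg hd hng ht hj (by omega : 0 < n) (Nat.mod_lt _ (by omega))
      h1 with ⟨h4, h5⟩ | ⟨h4, h5⟩
    · subst h4
      rw [zero_add, Nat.mod_eq_of_lt hi] at h5
      exact h5.symm
    · exact absurd h5 hj0
  · interval_cases i <;> interval_cases j <;> first | rfl | omega
  · revert h; unfold Nat.ModEq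
    interval_cases i <;> interval_cases j <;> interval_cases t <;>
      first | (exact absurd rfl hi0) | (exact absurd rfl hj0) | decide
  · revert h; unfold Nat.ModEq
    interval_cases i <;> interval_cases j <;> interval_cases t <;>
      first | (exact absurd rfl hi0) | (exact absurd rfl hj0) | decide
  · revert h; unfold Nat.ModEq
    interval_cases i <;> interval_cases j <;> interval_cases t <;>
      first | (exact absurd rfl hi0) | (exact absurd rfl hj0) | decide

end Cfsg.Agent.H448.SuzArith
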