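import Cfsg.Agent.LieRecognition.FieldAutBasis

/-!
# Equivariant additive and biadditive maps on a finite field of characteristic two

`l` is an element of the finite field `F` such that the products `σ l * τ l` of two automorphisms are
almost unique.
-/

set_option autoImplicit false

namespace Cfsg.Agent.H448.SuzField

open Cfsg.Agent.LieRecognition.FieldAutBasis Polynomial

variable {F : Type*} [Field F] [Finite F] [CharP F 2]

theorem exists_sqrt (a : F) : ∃ w, w * w = a := by
  have := Fintype.ofFinite F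
  obtain ⟨w, hw⟩ := FiniteField.isSquare_of_char_two (ringChar.eq F 2) a
  exact ⟨w, hw.symm⟩

omit [Finite F] [CharP F 2] in
theorem coeff_zero₂ [Fintype (F ≃+* F)] (d : (F ≃+* F) → (F ≃+* F) → F)
    (h : ∀ x y : F, ∑ σ, ∑ τ, d σ τ * (σ x * τ y) = 0) (σ τ : F ≃+* F) : d σ τ = 0 := by
  have h1 : ∀ y : F, (fun σ => ∑ τ, d σ τ * τ y) = (0 : (F ≃+* F) → F) := by
    intro y
    apply eq_zero_of_sum_eq_zero
    intro x
    rw [← h x y]
    refine Finset.sum_congr rfl fun σ _ => ?_
    rw [Finset.sum_mul]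
    refine Finset.sum_congr rfl fun τ _ => ?_
    ring
  have h2 : (fun τ => d σ τ) = (0 : (F ≃+* F) → F) := by
    apply eq_zero_of_sum_eq_zero
    intro y
    exact congrFun (h1 y) σ
  exact congrFun h2 τ

/-- An equivariant alternating biadditive map vanishes. -/
theorem alt_zero {l : F} (hnt : ∀ σ τ : F ≃+* F, σ l * τ l = l → σ = τ) (B : F →+ F →+ F)
    (hB : ∀ x y, B (l * x) (l * y) = l * B x y) (halt : ∀ x, B x x = 0) (x y : F) : B x y = 0 := by
  classical
  have : Finite (F ≃+* F) := Finite.of_injective (fun σ : F ≃+* F => (σ : F → F)) DFunLike.coe_injective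
  let _ : Fintype (F ≃+* F) := Fintype.ofFinite _
  obtain ⟨c, hc⟩ := existsUnique_coeff₂ 2 B
  have hz : ∀ σ τ : F ≃+* F, c σ τ * (σ l * τ l - l) = 0 := by
    apply coeff_zero₂
    intro x y
    have h1 := hB x y
    rw [hc, hc, Finset.mul_sum] at h1
    rw [← sub_eq_zero, ← Finset.sum_sub_distrib] at h1
    rw [← h1]
    refine Finset.sum_congr rfl fun σ _ => ?_
    rw [Finset.mul_sum, ← Finset.sum_sub_distrib]
    refine Finset.sum_congr rfl fun τ _ => ?_
    rw [map_mul, map_mul]
    ring
  obtain ⟨w, hw⟩ := exists_sqrt (x * y)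
  rw [← halt w, hc, hc]
  refine Finset.sum_congr rfl fun σ _ => Finset.sum_congr rfl fun τ _ => ?_
  by_cases h0 : c σ τ = 0
  · rw [h0, zero_mul, zero_mul]
  · have h1 : σ = τ := hnt σ τ (sub_eq_zero.mp ((mul_eq_zero.mp (hz σ τ)).resolve_left h0))
    subst h1
    rw [← map_mul, ← map_mul, hw]

/-- Separating polynomials. -/
theorem exists_poly {ι : Type*} [Fintype ι] [DecidableEq ι] (μ : ι → F) (i0 : ι)
    (h : ∀ i, (∃ g : F ≃+* F, g (μ i0) = μ i) → i = i0) :
    ∃ P : ℤ[X], aeval (μ i0) P = 1 ∧ ∀ i, i ≠ i0 → aeval (μ i) P = 0 := by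
  let _ : Fintype F := Fintype.ofFinite F
  let _ : Algebra (ZMod 2) F := ZMod.algebra F 2
  have : IsGalois (ZMod 2) F := inferInstance
  have hint : ∀ x : F, IsIntegral (ZMod 2) x := fun x => IsIntegral.of_finite (ZMod 2) x
  have hcop : IsCoprime (minpoly (ZMod 2) (μ i0))
      (∏ i ∈ Finset.univ.erase i0, minpoly (ZMod 2) (μ i)) := by
    apply IsCoprime.prod_right
    intro i hi
    rw [Finset.mem_erase] at hi
    rw [(minpoly.irreducible (hint (μ i0))).coprime_iff_not_dvd]
    intro hdvd
    apply hi.1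
    apply h
    have h2 : aeval (μ i) (minpoly (ZMod 2) (μ i0)) = 0 := by
      have h3 : minpoly (ZMod 2) (μ i0) = minpoly (ZMod 2) (μ i) :=
        eq_of_monic_of_associated (minpoly.monic (hint _)) (minpoly.monic (hint _))
          ((minpoly.irreducible (hint (μ i0))).associated_of_dvd (minpoly.irreducible (hint (μ i)))
            hdvd)
      rw [h3]
      exact minpoly.aeval _ _
    obtain ⟨g, hg⟩ := minpoly.exists_algEquiv_of_root' (hint (μ i0)).isAlgebraic h2
    exact ⟨(g : F ≃+* F), hg⟩
  obtain ⟨u, w, huw⟩ := hcop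
  set D := ∏ i ∈ Finset.univ.erase i0, minpoly (ZMod 2) (μ i) with hD
  have hsurj : Function.Surjective (Polynomial.map (Int.castRingHom (ZMod 2))) :=
    Polynomial.map_surjective _ (ZMod.ringHom_surjective _)
  obtain ⟨P, hP⟩ := hsurj (w * D)
  have hev : ∀ x : F, aeval x P = aeval x (w * D) := by
    intro x
    rw [← hP, aeval_def, aeval_def, eval₂_map]
    congr 1
    exact Subsingleton.elim _ _
  refine ⟨P, ?_, ?_⟩
  · rw [hev]
    have h1 := congrArg (aeval (μ i0)) huw
    rw [map_add, map_mul, minpoly.aeval, mul_zero, zero_add, map_one] at h1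
    exact h1
  · intro i hi
    rw [hev, map_mul]
    have : aeval (μ i) D = 0 := by
      rw [hD, map_prod]
      exact Finset.prod_eq_zero (Finset.mem_erase.mpr ⟨hi, Finset.mem_univ i⟩) (minpoly.aeval _ _)
    rw [this, mul_zero]

/-- The additive map `x ↦ c * σ x`. -/
noncomputable def term (c : F) (σ : F ≃+* F) : F →+ F :=
  AddMonoidHom.mk' (fun x => c * σ x) (by intro x y; rw [map_add, mul_add])

omit [Finite F] [CharP F 2] in
theorem term_apply (c : F) (σ : F ≃+* F) (x : F) : term c σ x = c * σ x := rfl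

/-- The conjugation operator. -/
noncomputable def conj (l : F) : AddMonoid.End (F →+ F) :=
  AddMonoidHom.mk' (fun v => AddMonoidHom.mk' (fun x => l * v (l⁻¹ * x))
    (by intro x y; rw [mul_add, map_add, mul_add]))
    (by intro v w; ext x; change l * (v (l⁻¹ * x) + w (l⁻¹ * x)) = _; rw [mul_add]; rfl)

omit [Finite F] [CharP F 2] in
theorem conj_apply (l : F) (v : F →+ F) (x : F) : conj l v x = l * v (l⁻¹ * x) := rfl

omit [Finite F] [CharP F 2] in
theorem conj_term (l c : F) (σ : F ≃+* F) :
    conj l (term c σ) = term ((l * (σ l)⁻¹) * c) σ := by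
  ext x
  rw [conj_apply, term_apply, term_apply, map_mul, map_inv₀]
  ring

omit [Finite F] [CharP F 2] in
theorem aeval_term (l c : F) (σ : F ≃+* F) (P : ℤ[X]) :
    (aeval (conj l) P) (term c σ) = term (aeval (l * (σ l)⁻¹) P * c) σ := by
  induction P using Polynomial.induction_on' with
  | add p q hp hq =>
    rw [map_add, map_add]
    change (aeval (conj l) p) (term c σ) + (aeval (conj l) q) (term c σ) = _
    rw [hp, hq]
    ext x
    simp only [AddMonoidHom.add_apply, term_apply]
    ring
  | monomial n a =>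
    rw [aeval_monomial, aeval_monomial]
    have h1 : ∀ n : ℕ, ((conj l) ^ n) (term c σ) = term ((l * (σ l)⁻¹) ^ n * c) σ := by
      intro n
      induction n with
      | zero => rw [pow_zero, pow_zero, one_mul]; rfl
      | succ n ih =>
        rw [pow_succ']
        change conj l (((conj l) ^ n) (term c σ)) = _
        rw [ih, conj_term]
        congr 1
        ring
    change (algebraMap ℤ (AddMonoid.End (F →+ F)) a) (((conj l) ^ n) (term c σ)) = _
    rw [h1]
    have h2 : ∀ v : F →+ F, (algebraMap ℤ (AddMonoid.End (F →+ F)) a) v = a • v := by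
      intro v
      exact AddMonoid.End.intCast_apply a v
    rw [h2]
    ext x
    rw [AddMonoidHom.coe_smul, Pi.smul_apply, term_apply, term_apply, zsmul_eq_mul]
    simp only [eq_intCast]
    ring

omit [Finite F] [CharP F 2] in
theorem aeval_mem (l : F) (V : AddSubgroup (F →+ F)) (hV : ∀ v ∈ V, conj l v ∈ V) (P : ℤ[X]) :
    ∀ v ∈ V, (aeval (conj l) P) v ∈ V := by
  induction P using Polynomial.induction_on' with
  | add p q hp hq =>
    intro v hv
    rw [map_add]
    exact V.add_mem (hp v hv) (hq v hv)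
  | monomial n a =>
    intro v hv
    rw [aeval_monomial]
    have h1 : ∀ n : ℕ, ((conj l) ^ n) v ∈ V := by
      intro n
      induction n with
      | zero => rw [pow_zero]; exact hv
      | succ n ih => rw [pow_succ']; exact hV _ ih
    change (algebraMap ℤ (AddMonoid.End (F →+ F)) a) (((conj l) ^ n) v) ∈ V
    have h2 : ∀ v : F →+ F, (algebraMap ℤ (AddMonoid.End (F →+ F)) a) v = a • v := by
      intro v
      exact AddMonoid.End.intCast_apply a v
    rw [h2]
    exact V.zsmul_mem (h1 n) a

/-- The components of an element of an invariant group of additive maps belong to it. -/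
theorem component_mem [Fintype (F ≃+* F)] {l : F} (hl : l ≠ 0)
    (hsep : ∀ g φ ψ : F ≃+* F, g l * ψ l = l * g (φ l) → φ = ψ)
    (V : AddSubgroup (F →+ F)) (hV : ∀ v ∈ V, conj l v ∈ V) {v : F →+ F} (hv : v ∈ V)
    (c : (F ≃+* F) → F) (hc : ∀ x, v x = ∑ σ, c σ * σ x) (σ0 : F ≃+* F) :
    term (c σ0) σ0 ∈ V := by
  classical
  obtain ⟨P, hP1, hP2⟩ := exists_poly (fun σ : F ≃+* F => l * (σ l)⁻¹) σ0 (by
    rintro σ ⟨g, hg⟩
    symm
    apply hsep g
    rw [map_mul, map_inv₀] at hg
    have h1 : σ l ≠ 0 := by simpa using hl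
    have h2 : g (σ0 l) ≠ 0 := by simpa using hl
    field_simp at hg
    linear_combination hg)
  have hvs : v = ∑ σ, term (c σ) σ := by
    ext x
    rw [hc x, AddMonoidHom.finsetSum_apply]
    rfl
  have h1 : (aeval (conj l) P) v = term (c σ0) σ0 := by
    rw [hvs, map_sum]
    rw [Finset.sum_eq_single σ0]
    · rw [aeval_term, hP1, one_mul]
    · intro σ _ hσ
      rw [aeval_term, hP2 σ hσ, zero_mul]
      ext x
      rw [term_apply, zero_mul]; rfl
    · intro h; exact absurd (Finset.mem_univ _) h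
  rw [← h1]
  exact aeval_mem l V hV P v hv

/-! ### Counting -/

/-- The fixed elements of `φ`. -/
def fix (φ : F ≃+* F) : Set F := {x | φ x = x}

omit [CharP F 2] in
theorem sq_card_fix_le (φ : F ≃+* F) (hφ : ∃ x, φ x ≠ x) :
    (fix φ).ncard * (fix φ).ncard ≤ Nat.card F := by
  classical
  obtain ⟨t, ht⟩ := hφ
  have h1 : Function.Injective (fun p : fix φ × fix φ => (p.1 : F) + p.2 * t) := by
    rintro ⟨⟨a, ha⟩, ⟨b, hb⟩⟩ ⟨⟨a', ha'⟩, ⟨b', hb'⟩⟩ h
    simp only at h
    have ha1 : φ a = a := ha
    have hb1 : φ b = b := hb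
    have ha1' : φ a' = a' := ha'
    have hb1' : φ b' = b' := hb'
    by_cases hbb : b = b'
    · subst hbb
      have : a = a' := add_right_cancel h
      subst this
      rfl
    · exfalso
      apply ht
      have h2 : (b - b') ≠ 0 := sub_ne_zero.mpr hbb
      have h3 : t = (a' - a) * (b - b')⁻¹ := by
        rw [eq_mul_inv_iff_mul_eq₀ h2]
        linear_combination h
      rw [h3, map_mul, map_inv₀, map_sub, map_sub, ha1, hb1, ha1', hb1']
  have h2 := Nat.card_le_card_of_injective _ h1
  rw [Nat.card_prod] at h2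
  rw [← Nat.card_coe_set_eq]
  exact h2

omit [CharP F 2] in
theorem two_le_fix (φ : F ≃+* F) : 2 ≤ (fix φ).ncard := by
  have h1 : ({0, 1} : Set F) ⊆ fix φ := by
    intro x hx
    rcases hx with rfl | rfl
    · exact map_zero φ
    · exact map_one φ
  have h2 := Set.ncard_le_ncard h1 (Set.toFinite _)
  rw [Set.ncard_pair zero_ne_one] at h2
  exact h2

omit [CharP F 2] in
/-- The solutions of `f = a * φ f`. -/
theorem card_sol_le (φ : F ≃+* F) (a : F) : ({f : F | f = a * φ f}).ncard ≤ (fix φ).ncard := by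
  classical
  by_cases h : ∃ f0 : F, f0 ≠ 0 ∧ f0 = a * φ f0
  · obtain ⟨f0, hf0, hf1⟩ := h
    refine Set.ncard_le_ncard_of_injOn (fun f => f / f0) ?_ ?_ (Set.toFinite _)
    · intro f hf
      change φ (f / f0) = f / f0
      have hf' : f = a * φ f := hf
      have h1 : φ f0 ≠ 0 := by simpa using hf0
      rw [map_div₀, div_eq_div_iff h1 hf0]
      by_cases ha : a = 0
      · rw [ha, zero_mul] at hf1; exact absurd hf1 hf0
      · apply mul_left_cancel₀ ha
        linear_combination f * hf1 - f0 * hf'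
    · intro f _ g _ hfg
      exact (div_left_inj' hf0).mp hfg
  · push Not at h
    have h1 : ({f : F | f = a * φ f}) ⊆ {0} := by
      intro f hf
      by_contra hne
      exact h f hne hf
    have h2 := Set.ncard_le_ncard h1 (Set.toFinite _)
    rw [Set.ncard_singleton] at h2
    have := two_le_fix φ
    omega

omit [CharP F 2] in
/-- There are many quotients `f / φ f`. -/
theorem card_quot (φ : F ≃+* F) (S : Set F) (h0 : (0 : F) ∈ S) (hS : ∀ f : F, f ≠ 0 → f / φ f ∈ S) :
    Nat.card F - 1 ≤ ((fix φ).ncard - 1) * (S.ncard - 1) := by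
  classical
  let _ : Fintype F := Fintype.ofFinite F
  have h1 := Finset.card_le_mul_card_image (f := fun f : F => f / φ f) (Finset.univ.erase (0 : F))
    ((fix φ).ncard - 1) (by
      intro a ha
      obtain ⟨g, hg, rfl⟩ := Finset.mem_image.mp ha
      rw [Finset.mem_erase] at hg
      have hg0 := hg.1
      have h2 : ((Finset.univ.erase (0 : F)).filter (fun f => f / φ f = g / φ g)).card ≤
          ((fix φ) \ {0}).ncard := by
        rw [Set.ncard_eq_toFinset_card']
        refine Finset.card_le_card_of_injOn (fun f => f / g) ?_ ?_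
        · intro f hf
          simp only [Finset.coe_filter, Finset.mem_erase, Finset.mem_univ, and_true,
            Set.mem_ofPred_eq] at hf
          simp only [Set.coe_toFinset, Set.mem_sdiff, Set.mem_singleton_iff]
          refine ⟨?_, div_ne_zero hf.1 hg0⟩
          change φ (f / g) = f / g
          have h3 : φ f ≠ 0 := by simpa using hf.1
          have h4 : φ g ≠ 0 := by simpa using hg0
          have h5 := hf.2
          rw [div_eq_div_iff h3 h4] at h5
          rw [map_div₀, div_eq_div_iff h4 hg0]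
          linear_combination -h5
        · intro f _ f' _ h
          exact (div_left_inj' hg0).mp h
      refine h2.trans ?_
      rw [Set.ncard_sdiff_singleton_of_mem (show (0 : F) ∈ fix φ from map_zero φ)])
  rw [Finset.card_erase_of_mem (Finset.mem_univ _), Finset.card_univ, ← Nat.card_eq_fintype_card] at h1
  refine h1.trans (Nat.mul_le_mul_left _ ?_)
  rw [← Set.ncard_sdiff_singleton_of_mem h0, Set.ncard_eq_toFinset_card']
  apply Finset.card_le_card
  intro a ha
  obtain ⟨g, hg, rfl⟩ := Finset.mem_image.mp ha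
  rw [Finset.mem_erase] at hg
  have h4 : φ g ≠ 0 := by simpa using hg.1
  simp only [Set.mem_toFinset, Set.mem_sdiff, Set.mem_singleton_iff]
  exact ⟨hS g hg.1, div_ne_zero hg.1 h4⟩

omit [CharP F 2] in
/-- The final count. -/
theorem count_false (φ ψ : F ≃+* F) (hφ : ∃ x, φ x ≠ x) (hψ : ∃ x, ψ x ≠ x) (S : Set F)
    (h0 : (0 : F) ∈ S) (hS : ∀ f : F, f ≠ 0 → f / φ f ∈ S) (hle : S.ncard ≤ (fix ψ).ncard) :
    False := by
  have h1 := card_quot φ S h0 hS
  have h2 := sq_card_fix_le φ hφ
  have h3 := sq_card_fix_le ψ hψ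
  have h4 := two_le_fix φ
  have h5 := two_le_fix ψ
  set a := (fix φ).ncard
  set b := (fix ψ).ncard
  set q := Nat.card F
  have h6 : (a - 1) * (S.ncard - 1) ≤ (a - 1) * (b - 1) := Nat.mul_le_mul_left _ (by omega)
  obtain ⟨a', ha'⟩ : ∃ a', a = a' + 1 := ⟨a - 1, by omega⟩
  obtain ⟨b', hb'⟩ : ∃ b', b = b' + 1 := ⟨b - 1, by omega⟩
  rw [ha'] at h1 h2 h4 h6
  rw [hb'] at h3 h5 h6
  simp only [Nat.add_sub_cancel] at h1 h6
  have h7 : q ≤ a' * b' + 1 := by
    have := h1.trans h6
    omega
  rcases le_total a' b' with h | h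
  · have h8 : a' * b' ≤ b' * b' := Nat.mul_le_mul_right _ h
    nlinarith
  · have h8 : a' * b' ≤ a' * a' := Nat.mul_le_mul_left _ h
    nlinarith

end Cfsg.Agent.H448.SuzField
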