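import Cfsg.Agent.H448.SuzMain

/-!
# Suzuki 2-groups: the induction
-/

set_option autoImplicit false

namespace Cfsg.Agent.H448.Suz

open Cfsg.Agent.H448.SuzField Cfsg.Agent.LieRecognition.FieldAutBasis
open scoped commutatorElement

variable {G : Type*} [Group G] {F : Type*} [Field F]

variable {D : SData G F} {H : Subgroup (MulAut G)} {h0 : MulAut G} {l : F}
  (A : HData D H h0 l) [Finite G] [Finite F] [CharP F 2]

include A

omit [Finite F] [CharP F 2] in
/-- The squares generate an abelian subgroup. -/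
theorem ab_Phi {M : Subgroup G} (hM : Inv H M) (hTA : Ab (Phi M) ∨ Ty (Phi M)) : Ab (Phi M) := by
  by_contra hna
  have hTy : Ty (Phi M) := hTA.resolve_left hna
  have hN : ∃ w ∈ Phi M, w * w ≠ 1 := by
    by_contra hcon
    push Not at hcon
    exact hna fun x hx y _ => D.comm_of_sq (hcon x hx) y
  obtain ⟨w, hw, hw1, hw2⟩ := exists_low D A.two (M := M) (N := Phi M)
    (fun w hw g hg => com_mem_Phi (Phi_le_self M hw) hg) hN
  have h1 : Phi M ≤ Subgroup.centralizer ({w} : Set G) := by
    apply Phi_le
    intro g hg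
    rw [Subgroup.mem_centralizer_singleton_iff]
    have h2 : ⁅w, g * g⁆ = 1 := by
      rw [com_mul_right', ← D.comm_of_sq (hw2 g hg) g, mul_inv_cancel_right]
      exact hw2 g hg
    exact (commutatorElement_eq_one_iff_mul_comm.mp h2).symm
  apply hw1
  apply central_sq A (Phi_inv hM) hTy hna hw
  intro x hx
  exact (Subgroup.mem_centralizer_singleton_iff.mp (h1 hx)).symm

theorem dichotomy (n : ℕ) : ∀ M : Subgroup G, Inv H M → Nat.card M ≤ n → Ab M ∨ Ty M := by
  induction n with
  | zero =>
    intro M _ h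
    have : 0 < Nat.card M := Nat.card_pos
    omega
  | succ n ih =>
    intro M hM hcard
    by_contra hcon
    push Not at hcon
    obtain ⟨hna, hnt⟩ := hcon
    have IH : ∀ N : Subgroup G, Inv H N → N < M → Ab N ∨ Ty N := by
      intro N hN hlt
      apply ih N hN
      have h1 : Nat.card N < Nat.card M := by
        have h2 := Set.ncard_lt_ncard (s := (N : Set G)) (t := (M : Set G)) hlt (Set.toFinite _)
        exact h2
      omega
    have hMne : M ≠ ⊥ := by
      rintro rfl
      apply hna
      intro x hx y hy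
      rw [Subgroup.mem_bot.mp hx, Subgroup.mem_bot.mp hy]
    have hPhiAb : Ab (Phi M) := ab_Phi A hM (IH _ (Phi_inv hM)
      (lt_of_le_of_ne (Phi_le_self M) (Phi_ne A.two hMne)))
    -- a maximal abelian invariant subgroup containing the squares
    let S : Set (Subgroup G) := {N | Inv H N ∧ Phi M ≤ N ∧ N ≤ M ∧ Ab N}
    obtain ⟨X, -, hXmax⟩ := (Set.toFinite S).exists_le_maximal
      (show Phi M ∈ S from ⟨Phi_inv hM, le_rfl, Phi_le_self M, hPhiAb⟩)
    obtain ⟨hX, hPX, hXM, hXc⟩ : X ∈ S := hXmax.prop
    have hmax : ∀ N : Subgroup G, Inv H N → X ≤ N → N ≤ M → Ab N → N ≤ X := by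
      intro N h1 h2 h3 h4
      exact hXmax.le_of_ge ⟨h1, hPX.trans h2, h3, h4⟩ h2
    have hΦ : ∀ b ∈ M, b * b ∈ X := fun b hb => hPX (sq_mem_Phi hb)
    have hXX : ∃ z ∈ X, z * z ≠ 1 := by
      by_contra hcon
      push Not at hcon
      exact hnt fun b hb => hcon _ (hΦ b hb)
    have hXne : X ≠ ⊥ := by
      rintro rfl
      obtain ⟨z, hz, hz1⟩ := hXX
      rw [Subgroup.mem_bot.mp hz, mul_one] at hz1
      exact hz1 rfl
    -- the centralizer of `X`
    have hcent : ∀ b ∈ M, (∀ x ∈ X, b * x = x * b) → b ∈ X := by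
      by_cases hC : M ⊓ Subgroup.centralizer (X : Set G) = M
      · exfalso
        refine case_central A hM hX hXM ?_ hΦ hna hXX
        intro x hx b hb
        rw [← hC] at hb
        exact Subgroup.mem_centralizer_iff.mp hb.2 x hx
      · have hClt := lt_of_le_of_ne inf_le_left hC
        have hCinv := inv_cent hM hX
        have hXC : X ≤ M ⊓ Subgroup.centralizer (X : Set G) := by
          intro x hx
          refine ⟨hXM hx, ?_⟩
          exact Subgroup.mem_centralizer_iff.mpr fun y hy => hXc y hy x hx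
        have hCab : Ab (M ⊓ Subgroup.centralizer (X : Set G)) := by
          by_contra hnaC
          obtain ⟨z, hz, hz1⟩ := hXX
          apply hz1
          exact central_sq A hCinv ((IH _ hCinv hClt).resolve_left hnaC) hnaC (hXC hz)
            (fun x hx => Subgroup.mem_centralizer_iff.mp hx.2 z hz)
        intro b hb hbx
        exact hmax _ hCinv hXC inf_le_left hCab ⟨hb, Subgroup.mem_centralizer_iff.mpr fun y hy =>
          (hbx y hy).symm⟩
    obtain ⟨m, hm1, ⟨z0, hz0, hz1⟩, hm2⟩ := exists_exp A.two hXX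
    have hcomX : ∀ b ∈ M, ∀ b' ∈ M, ⁅b, b'⁆ ∈ X := fun b hb b' hb' => hPX (com_mem_Phi hb hb')
    have hdbl : ∀ b ∈ M, ∀ x ∈ X, ⁅b, x * x⁆ = ⁅b, x⁆ * ⁅b, x⁆ := by
      intro b hb x hx
      rw [com_mul_right', hXc x hx _ (hcomX b hb x (hXM hx)), mul_inv_cancel_right]
    have hbbx : ∀ b ∈ M, ∀ x ∈ X, ⁅b * b, x⁆ = 1 := fun b hb x hx =>
      commutatorElement_eq_one_iff_mul_comm.mpr (hXc _ (hΦ b hb) x hx)
    set Y := tors X hXc 2 with hY
    have hYinv : Inv H Y := inv_tors hX hXc 2
    have hYX : Y ≤ X := fun y hy => hy.1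
    have hroot : ∀ a : F, ∃ y ∈ Y, y * y = D.e a := by
      intro a
      obtain ⟨y, hy, hyy⟩ := exists_root A hX hXc hz0 hz1 1 hm1 (D.e a) (e_mem A hX hXne a)
        (by rw [pow_one, pow_two]; exact D.sq_e a)
      refine ⟨y, ⟨hy, ?_⟩, hyy⟩
      rw [pow_four_iff, hyy]
      exact D.sq_e a
    have hcom : ∀ b ∈ M, ∀ y ∈ Y, ⁅b, y⁆ * ⁅b, y⁆ = 1 := by
      intro b hb y hy
      rw [← hdbl b hb y hy.1]
      apply commutatorElement_eq_one_iff_mul_comm.mpr
      exact (D.comm_of_sq ((pow_four_iff y).mp hy.2) b).symm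
    by_cases hC2 : M ⊓ Subgroup.centralizer (Y : Set G) = M
    · -- `Y` is central
      have hYcen : ∀ x ∈ X, x ^ 2 ^ 2 = 1 → ∀ b ∈ M, x * b = b * x := by
        intro x hx hx2 b hb
        rw [← hC2] at hb
        exact Subgroup.mem_centralizer_iff.mp hb.2 x ⟨hx, hx2⟩
      classical
      have hex : ∃ j, ¬ ∀ x ∈ X, x ^ 2 ^ j = 1 → ∀ b ∈ M, x * b = b * x := by
        refine ⟨m + 1, fun h => ?_⟩
        apply hna
        have hMX : M ≤ X := fun b hb => hcent b hb fun x hx => (h x hx (hm2 x hx) b hb).symm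
        exact fun x hx y hy => hXc x (hMX hx) y (hMX hy)
      set j := Nat.find hex with hj
      have hj1 : ¬ ∀ x ∈ X, x ^ 2 ^ j = 1 → ∀ b ∈ M, x * b = b * x := Nat.find_spec hex
      have hjm : j ≤ m + 1 := by
        apply Nat.find_min' hex
        intro h
        apply hna
        have hMX : M ≤ X := fun b hb => hcent b hb fun x hx => (h x hx (hm2 x hx) b hb).symm
        exact fun x hx y hy => hXc x (hMX hx) y (hMX hy)
      have hj3 : 3 ≤ j := by
        by_contra hlt
        push Not at hlt
        apply hj1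
        intro x hx hxj
        apply hYcen x hx
        have h1 : (2 : ℕ) ^ 2 = 2 ^ j * 2 ^ (2 - j) := by
          rw [← pow_add]
          congr 1
          omega
        rw [h1, pow_mul, hxj, one_pow]
      have hjp : ∀ x ∈ X, x ^ 2 ^ (j - 1) = 1 → ∀ b ∈ M, x * b = b * x := by
        have := Nat.find_min hex (m := j - 1) (by omega)
        push Not at this
        exact this
      by_cases hjm' : j ≤ m
      · apply hj1
        intro x hx hxj b hb
        obtain ⟨u, hu, huu⟩ := exists_root A hX hXc hz0 hz1 j hjm' x hx hxj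
        have hδ := hcomX b hb u (hXM hu)
        have h1 : ⁅b, x⁆ = ⁅b, u⁆ * ⁅b, u⁆ := by rw [← huu]; exact hdbl b hb u hu
        have h2 : ⁅b, x⁆ * ⁅b, x⁆ = 1 := by
          rw [← hdbl b hb x hx]
          apply commutatorElement_eq_one_iff_mul_comm.mpr
          symm
          apply hjp _ (X.mul_mem hx hx) _ b hb
          rw [← pow_two, ← pow_mul, ← pow_succ']
          have h3 : j - 1 + 1 = j := by omega
          rw [h3]
          exact hxj
        have h3 : ⁅b, u⁆ ^ 2 ^ 2 = 1 := by
          rw [pow_four_iff, ← h1]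
          exact h2
        have h4 := hYcen _ hδ h3 b hb
        have h5 := com_bb b u
        rw [hbbx b hb u hu, ← h4, mul_inv_cancel_right, ← h1] at h5
        exact (commutatorElement_eq_one_iff_mul_comm.mp h5.symm).symm
      · have hjeq : j = m + 1 := by omega
        rw [hjeq] at hjp
        exact case_deep A hM hX hXM hXc hΦ hcent (by omega) hz0 hz1 hm2 hjp hna
    · -- `X` is the centralizer of `Y`
      have hC2lt := lt_of_le_of_ne inf_le_left hC2
      have hC2inv := inv_cent hM hYinv
      have hXC2 : X ≤ M ⊓ Subgroup.centralizer (Y : Set G) := by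
        intro x hx
        refine ⟨hXM hx, ?_⟩
        exact Subgroup.mem_centralizer_iff.mpr fun y hy => hXc y (hYX hy) x hx
      have hC2ab : Ab (M ⊓ Subgroup.centralizer (Y : Set G)) := by
        by_contra hnaC
        obtain ⟨y, hy, hyy⟩ := hroot 1
        have h1 : y * y = 1 :=
          central_sq A hC2inv ((IH _ hC2inv hC2lt).resolve_left hnaC) hnaC (hXC2 (hYX hy))
            (fun x hx => Subgroup.mem_centralizer_iff.mp hx.2 y hy)
        rw [hyy, ← D.e_zero] at h1
        exact one_ne_zero (D.inj h1)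
      have hC2X := hmax _ hC2inv hXC2 inf_le_left hC2ab
      have P : Pair D M Y X :=
        { YM := hYX.trans hXM
          XM := hXM
          Yc := fun x hx y hy => hXc x (hYX hx) y (hYX hy)
          Xc := hXc
          root := hroot
          Y4 := fun y hy => (pow_four_iff y).mp hy.2
          com := hcom
          cent := fun b hb h => hC2X ⟨hb, Subgroup.mem_centralizer_iff.mpr fun y hy => (h y hy).symm⟩
          XY := fun x hx y hy => hXc x hx y (hYX hy)
          sqX := hΦ }
      rcases Nat.lt_or_ge m 2 with hm | hm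
      · have hm' : m = 1 := by omega
        have hYX' : Y = X := by
          apply le_antisymm hYX
          intro x hx
          refine ⟨hx, ?_⟩
          have := hm2 x hx
          rw [hm'] at this
          exact this
        rw [hYX'] at P
        exact hnt fun b hb => pow_four P A hM hX hb
      · have hMX : M ≤ X := by
          apply le_of_idem A P hM hYinv hX
          intro b hb a
          obtain ⟨y, hy, hyy⟩ := hroot a
          obtain ⟨x, hx, hxx⟩ := exists_root A hX hXc hz0 hz1 2 hm y hy.1 hy.2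
          have hδX := hcomX b hb x (hXM hx)
          have h1 : ⁅b, y⁆ = ⁅b, x⁆ * ⁅b, x⁆ := by rw [← hxx]; exact hdbl b hb x hx
          have h2 := hcom b hb y hy
          have hδY : ⁅b, x⁆ ∈ Y := ⟨hδX, by rw [pow_four_iff, ← h1]; exact h2⟩
          have h3 : P.bet b a = D.lg ⁅b, y⁆ := by
            have := P.bet_lg hb hy
            rw [hyy, D.lg_e] at this
            exact this
          have h4 : ⁅b, ⁅b, x⁆⁆ = ⁅b, y⁆ := by
            have h5 := com_bb b x
            rw [hbbx b hb x hx] at h5
            have h6 : b * ⁅b, x⁆ * b⁻¹ = ⁅b, x⁆⁻¹ := eq_inv_of_mul_eq_one_left h5.symm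
            have h7 : ⁅b, ⁅b, x⁆⁆ = (b * ⁅b, x⁆ * b⁻¹) * ⁅b, x⁆⁻¹ := commutatorElement_def _ _
            rw [h7, h6, ← mul_inv_rev, ← h1]
            exact inv_eq_of_mul_eq_one_right h2
          have h5 := P.bet_lg hb hδY
          rw [h4, ← h1, ← h3] at h5
          exact h5
        exact hna fun x hx y hy => hXc x (hMX hx) y (hMX hy)

end Cfsg.Agent.H448.Suz
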