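import Cfsg.Agent.H448.SuzRed

/-!
# Suzuki 2-groups: the dichotomy `abelian` / `exponent four`
-/

set_option autoImplicit false

namespace Cfsg.Agent.H448.Suz

open Cfsg.Agent.H448.SuzField Cfsg.Agent.LieRecognition.FieldAutBasis
open scoped commutatorElement

variable {G : Type*} [Group G] {F : Type*} [Field F]

/-- Commutativity of a subgroup. -/
def Ab (M : Subgroup G) : Prop := ∀ x ∈ M, ∀ y ∈ M, x * y = y * x

/-- Exponent four modulo the involutions. -/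
def Ty (M : Subgroup G) : Prop := ∀ x ∈ M, (x * x) * (x * x) = 1

theorem exists_exp [Finite G] (hG : IsPGroup 2 G) {X : Subgroup G} (hz : ∃ z ∈ X, z * z ≠ 1) :
    ∃ m, 1 ≤ m ∧ (∃ z ∈ X, z ^ 2 ^ m ≠ 1) ∧ ∀ z ∈ X, z ^ 2 ^ (m + 1) = 1 := by
  classical
  have : Fact (Nat.Prime 2) := ⟨Nat.prime_two⟩
  obtain ⟨k, hk⟩ := IsPGroup.iff_card.mp hG
  have hex : ∃ k : ℕ, ∀ z ∈ X, z ^ 2 ^ k = 1 := ⟨k, fun z _ => by rw [← hk]; exact pow_card_eq_one'⟩
  set n := Nat.find hex with hn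
  have h1 : ∀ z ∈ X, z ^ 2 ^ n = 1 := Nat.find_spec hex
  obtain ⟨z, hzX, hz1⟩ := hz
  have h2 : 2 ≤ n := by
    by_contra hlt
    push Not at hlt
    apply hz1
    have h3 := h1 z hzX
    rw [← pow_two]
    interval_cases n
    · rw [pow_zero, pow_one] at h3
      rw [h3, one_pow]
    · exact h3
  refine ⟨n - 1, by omega, ?_, ?_⟩
  · have h3 := Nat.find_min hex (m := n - 1) (by omega)
    push Not at h3
    exact h3
  · have h4 : n - 1 + 1 = n := by omega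
    rw [h4]
    exact h1

theorem pow_two_pow_of_sq {z : G} (hz : z * z = 1) {m : ℕ} (hm : 1 ≤ m) : z ^ 2 ^ m = 1 := by
  obtain ⟨k, rfl⟩ := Nat.exists_eq_add_of_le hm
  rw [pow_add, pow_one, pow_mul, pow_two, hz, one_pow]

theorem sq_pow {z : G} {m : ℕ} (h : z ^ 2 ^ (m + 1) = 1) : z ^ 2 ^ m * z ^ 2 ^ m = 1 := by
  rw [← pow_add, ← two_mul, ← pow_succ']
  exact h

theorem com_bb (b x : G) : ⁅b * b, x⁆ = (b * ⁅b, x⁆ * b⁻¹) * ⁅b, x⁆ := by
  simp only [commutatorElement_def]; group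

theorem com_mul_left' (b b' x : G) : ⁅b * b', x⁆ = (b * ⁅b', x⁆ * b⁻¹) * ⁅b, x⁆ := by
  simp only [commutatorElement_def]; group

theorem com_mul_right' (b x x' : G) : ⁅b, x * x'⁆ = ⁅b, x⁆ * (x * ⁅b, x'⁆ * x⁻¹) := by
  simp only [commutatorElement_def]; group

theorem map_com (h : MulAut G) (x y : G) : h ⁅x, y⁆ = ⁅h x, h y⁆ := by
  simp only [commutatorElement_def, map_mul, map_inv]

theorem sq_mul_eq (b b' : G) : (b * b') * (b * b') = (b * ⁅b', b⁆ * b⁻¹) * (b * b) * (b' * b') := by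
  rw [commutatorElement_def]; group

/-- The elements of `X` of order dividing `2 ^ n`. -/
def tors (X : Subgroup G) (hc : Ab X) (n : ℕ) : Subgroup G where
  carrier := {x | x ∈ X ∧ x ^ 2 ^ n = 1}
  one_mem' := ⟨X.one_mem, one_pow _⟩
  mul_mem' := fun {x y} hx hy => ⟨X.mul_mem hx.1 hy.1, by
    have hcm : Commute x y := hc x hx.1 y hy.1
    rw [hcm.mul_pow, hx.2, hy.2, one_mul]⟩
  inv_mem' := fun {x} hx => ⟨X.inv_mem hx.1, by rw [inv_pow, hx.2, inv_one]⟩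

theorem mem_tors {X : Subgroup G} {hc : Ab X} {n : ℕ} {x : G} :
    x ∈ tors X hc n ↔ x ∈ X ∧ x ^ 2 ^ n = 1 := Iff.rfl

theorem pow_four_iff (x : G) : x ^ 2 ^ 2 = 1 ↔ (x * x) * (x * x) = 1 := by
  have : x ^ 2 ^ 2 = (x * x) * (x * x) := by
    have : (2 : ℕ) ^ 2 = 2 * 2 := by norm_num
    rw [this, pow_mul, pow_two, pow_two]
  rw [this]

section Main

variable {D : SData G F} {H : Subgroup (MulAut G)} {h0 : MulAut G} {l : F}
  (A : HData D H h0 l)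

theorem inv_tors {X : Subgroup G} (hX : Inv H X) (hc : Ab X) (n : ℕ) : Inv H (tors X hc n) := by
  intro h hh x hx
  exact ⟨hX h hh x hx.1, by rw [← map_pow, hx.2, map_one]⟩

theorem inv_cent {M Y : Subgroup G} (hM : Inv H M) (hY : Inv H Y) :
    Inv H (M ⊓ Subgroup.centralizer (Y : Set G)) := by
  intro h hh b hb
  refine ⟨hM h hh b hb.1, ?_⟩
  change h b ∈ Subgroup.centralizer (Y : Set G)
  rw [Subgroup.mem_centralizer_iff]
  intro y hy
  have h1 := (Subgroup.mem_centralizer_iff.mp hb.2) (h⁻¹ y) (hY _ (H.inv_mem hh) y hy)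
  have h2 := congrArg h h1
  rw [map_mul, map_mul, MulAut.apply_inv_self] at h2
  exact h2

include A

/-- Surjectivity onto the field of an equivariant function. -/
theorem surj_of {M : Subgroup G} (hM : Inv H M) (f : G → G) (hf : ∀ h ∈ H, ∀ x ∈ M, f (h x) = h (f x))
    (hf1 : f 1 = 1) (hf2 : ∀ x ∈ M, f x * f x = 1) {b0 : G} (hb0 : b0 ∈ M) (hb1 : f b0 ≠ 1) (a : F) :
    ∃ x ∈ M, D.lg (f x) = a := by
  by_cases ha : a = 0
  · exact ⟨1, M.one_mem, by rw [hf1, ha, D.lg_one]⟩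
  obtain ⟨a0, ha0⟩ := (D.sq _).mp (hf2 b0 hb0)
  have ha00 : a0 ≠ 0 := by
    rintro rfl
    rw [D.e_zero] at ha0
    exact hb1 ha0.symm
  obtain ⟨x, hx, hxa⟩ := all_of_one A (S := {g | ∃ x ∈ M, f x = g}) (by
    rintro h hh g ⟨x, hx, rfl⟩
    exact ⟨h x, hM h hh x hx, hf h hh x hx⟩) ha00 ⟨b0, hb0, ha0.symm⟩ ha
  exact ⟨x, hx, by rw [hxa, D.lg_e]⟩

theorem lg_h0 {x : G} (hx : x * x = 1) : D.lg (h0 x) = l * D.lg x := by
  rw [← D.e_lg hx, A.hl, D.lg_e, D.lg_e]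

variable [Finite G] [Finite F] [CharP F 2]

/-- `X` is not central. -/
theorem case_central {M X : Subgroup G} (hM : Inv H M) (hX : Inv H X)
    (hXM : X ≤ M) (hcen : ∀ x ∈ X, ∀ b ∈ M, x * b = b * x) (hΦ : ∀ b ∈ M, b * b ∈ X) (hna : ¬ Ab M)
    (hx : ∃ z ∈ X, z * z ≠ 1) : False := by
  have hXc : Ab X := fun x hx y hy => hcen x hx y (hXM hy)
  obtain ⟨m, hm1, ⟨z0, hz0, hz1⟩, hm2⟩ := exists_exp A.two hx
  have hXne : X ≠ ⊥ := by
    rintro rfl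
    rw [Subgroup.mem_bot.mp hz0, one_pow] at hz1
    exact hz1 rfl
  have hPhi : Phi M ≤ X := Phi_le hΦ
  have hcomX : ∀ b ∈ M, ∀ b' ∈ M, ⁅b, b'⁆ ∈ X := fun b hb b' hb' => hPhi (com_mem_Phi hb hb')
  have hcom2 : ∀ b ∈ M, ∀ b' ∈ M, ⁅b, b'⁆ * ⁅b, b'⁆ = 1 := by
    intro b hb b' hb'
    have h1 := com_bb b b'
    rw [← hcen _ (hcomX b hb b' hb') b hb, mul_inv_cancel_right,
      commutatorElement_eq_one_iff_mul_comm.mpr (hcen _ (hΦ b hb) b' hb')] at h1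
    exact h1.symm
  have hsq2 : ∀ b ∈ M, (b * b) ^ 2 ^ m * (b * b) ^ 2 ^ m = 1 := fun b hb => sq_pow (hm2 _ (hΦ b hb))
  have hmul : ∀ b ∈ M, ∀ b' ∈ M,
      ((b * b') * (b * b')) ^ 2 ^ m = (b * b) ^ 2 ^ m * (b' * b') ^ 2 ^ m := by
    intro b hb b' hb'
    rw [sq_mul_eq, ← hcen _ (hcomX b' hb' b hb) b hb, mul_inv_cancel_right]
    have c1 : Commute (⁅b', b⁆ * (b * b)) (b' * b') :=
      hXc _ (X.mul_mem (hcomX b' hb' b hb) (hΦ b hb)) _ (hΦ b' hb')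
    have c2 : Commute ⁅b', b⁆ (b * b) := hXc _ (hcomX b' hb' b hb) _ (hΦ b hb)
    rw [c1.mul_pow, c2.mul_pow, pow_two_pow_of_sq (hcom2 b' hb' b hb) hm1, one_mul]
  have hker : ∀ b ∈ M, (b * b) ^ 2 ^ m = 1 → b ∈ X := by
    intro b hb h
    obtain ⟨x, hxX, hxx⟩ := exists_root A hX hXc hz0 hz1 m le_rfl _ (hΦ b hb) h
    have h1 : (b * x⁻¹) * (b * x⁻¹) = 1 := by
      have h2 := hcen _ (X.inv_mem hxX) b hb
      calc (b * x⁻¹) * (b * x⁻¹) = b * (x⁻¹ * b) * x⁻¹ := by group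
        _ = (b * b) * (x * x)⁻¹ := by rw [h2]; group
        _ = 1 := by rw [hxx, mul_inv_cancel]
    have h3 := sq_mem A hX hXne h1
    have h4 : b = (b * x⁻¹) * x := by group
    rw [h4]
    exact X.mul_mem h3 hxX
  obtain ⟨b0, hb0, hb0X⟩ : ∃ b ∈ M, b ∉ X := by
    by_contra hcon
    push Not at hcon
    exact hna fun x hx y hy => hcen x (hcon x hx) y hy
  have hz : ∀ x ∈ M, ∀ y ∈ M, D.lg ⁅x, y⁆ = 0 := by
    apply alt_pair A (hM _ A.mem) (hM _ A.mem) (fun b => D.lg ((b * b) ^ 2 ^ m))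
      (fun b => D.lg ((b * b) ^ 2 ^ m)) (fun x y => D.lg ⁅x, y⁆)
    · intro x hx y hy
      rw [hmul x hx y hy, D.lg_mul (hsq2 x hx) (hsq2 y hy)]
    · intro x hx y hy
      rw [hmul x hx y hy, D.lg_mul (hsq2 x hx) (hsq2 y hy)]
    · exact surj_of A hM (fun b => (b * b) ^ 2 ^ m) (fun h _ x _ => by
        rw [map_pow, map_mul]) (by rw [mul_one, one_pow]) hsq2 hb0 (fun h => hb0X (hker b0 hb0 h))
    · exact surj_of A hM (fun b => (b * b) ^ 2 ^ m) (fun h _ x _ => by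
        rw [map_pow, map_mul]) (by rw [mul_one, one_pow]) hsq2 hb0 (fun h => hb0X (hker b0 hb0 h))
    · intro x hx
      rw [← lg_h0 A (hsq2 x hx), map_pow, map_mul]
    · intro x hx
      rw [← lg_h0 A (hsq2 x hx), map_pow, map_mul]
    · intro x hx x' hx' y hy
      rw [com_mul_left', ← hcen _ (hcomX x' hx' y hy) x hx, mul_inv_cancel_right,
        D.lg_mul (hcom2 x' hx' y hy) (hcom2 x hx y hy), add_comm]
    · intro x hx y hy y' hy'
      rw [com_mul_right', ← hcen _ (hcomX x hx y' hy') y hy, mul_inv_cancel_right,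
        D.lg_mul (hcom2 x hx y hy) (hcom2 x hx y' hy')]
    · intro x hx y hy
      rw [← lg_h0 A (hcom2 x hx y hy), map_com]
    · intro x hx y hy h
      have h1 := hker x hx (D.eq_one_of_lg (hsq2 x hx) h)
      rw [commutatorElement_eq_one_iff_mul_comm.mpr (hcen x h1 y hy), D.lg_one]
    · intro x hx y hy h
      have h1 := hker y hy (D.eq_one_of_lg (hsq2 y hy) h)
      rw [commutatorElement_eq_one_iff_mul_comm.mpr (hcen y h1 x hx).symm, D.lg_one]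
    · intro x hx y hy h
      have h1 := D.eq_of_lg (hsq2 x hx) (hsq2 y hy) h
      have h2 := hmul x hx y⁻¹ (M.inv_mem hy)
      have h3 : (y⁻¹ * y⁻¹) ^ 2 ^ m = ((y * y) ^ 2 ^ m)⁻¹ := by
        rw [← mul_inv_rev, inv_pow]
      rw [h3, h1, mul_inv_cancel] at h2
      have h4 := hker _ (M.mul_mem hx (M.inv_mem hy)) h2
      have h5 := hcen _ h4 y hy
      apply (congrArg D.lg (commutatorElement_eq_one_iff_mul_comm.mpr ?_)).trans D.lg_one
      calc x * y = ((x * y⁻¹) * y) * y := by group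
        _ = (y * (x * y⁻¹)) * y := by rw [h5]
        _ = y * x := by group
  apply hna
  intro x hx y hy
  exact commutatorElement_eq_one_iff_mul_comm.mp (D.eq_one_of_lg (hcom2 x hx y hy) (hz x hx y hy))

/-- The case of a deep central part. -/
theorem case_deep {M X : Subgroup G} (hM : Inv H M) (hX : Inv H X)
    (hXM : X ≤ M) (hXc : Ab X) (hΦ : ∀ b ∈ M, b * b ∈ X)
    (hcent : ∀ b ∈ M, (∀ x ∈ X, b * x = x * b) → b ∈ X) {m : ℕ} (hm1 : 2 ≤ m) {z0 : G} (hz0 : z0 ∈ X)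
    (hz1 : z0 ^ 2 ^ m ≠ 1) (hm2 : ∀ z ∈ X, z ^ 2 ^ (m + 1) = 1)
    (hXm : ∀ x ∈ X, x ^ 2 ^ m = 1 → ∀ b ∈ M, x * b = b * x) (hna : ¬ Ab M) : False := by
  have hXne : X ≠ ⊥ := by
    rintro rfl
    rw [Subgroup.mem_bot.mp hz0, one_pow] at hz1
    exact hz1 rfl
  have hPhi : Phi M ≤ X := Phi_le hΦ
  have hcomX : ∀ b ∈ M, ∀ b' ∈ M, ⁅b, b'⁆ ∈ X := fun b hb b' hb' => hPhi (com_mem_Phi hb hb')
  have hnorm : ∀ b ∈ M, ∀ x ∈ X, b * x * b⁻¹ ∈ X := by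
    intro b hb x hx
    have h1 : b * x * b⁻¹ = ⁅b, x⁆ * x := by rw [commutatorElement_def]; group
    rw [h1]
    exact X.mul_mem (hcomX b hb x (hXM hx)) hx
  have hpi2 : ∀ x ∈ X, x ^ 2 ^ m * x ^ 2 ^ m = 1 := fun x hx => sq_pow (hm2 x hx)
  -- commutators with `X`
  have hcom2 : ∀ b ∈ M, ∀ x ∈ X, ⁅b, x⁆ * ⁅b, x⁆ = 1 := by
    intro b hb x hx
    have h1 : ⁅b, x * x⁆ = ⁅b, x⁆ * ⁅b, x⁆ := by
      rw [com_mul_right', hXc x hx _ (hcomX b hb x (hXM hx)), mul_inv_cancel_right]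
    rw [← h1]
    apply commutatorElement_eq_one_iff_mul_comm.mpr
    symm
    apply hXm _ (X.mul_mem hx hx) _ b hb
    have hcm : Commute x x := rfl
    rw [hcm.mul_pow]
    exact hpi2 x hx
  -- commutators of `M` have order dividing four
  have hcom4 : ∀ b ∈ M, ∀ b' ∈ M, ⁅b', b⁆ ^ 2 ^ m = 1 := by
    intro b hb b' hb'
    have hz := hcomX b' hb' b hb
    have h1 : ⁅b', b * b⁆ = ⁅b', b⁆ * ⁅b', b⁆ * ⁅b, ⁅b', b⁆⁆ := by
      have h2 := D.comm_of_sq (hcom2 b hb _ hz)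
      calc ⁅b', b * b⁆ = ⁅b', b⁆ * ⁅b, ⁅b', b⁆⁆ * ⁅b', b⁆ := by
            simp only [commutatorElement_def]; group
        _ = ⁅b', b⁆ * ⁅b', b⁆ * ⁅b, ⁅b', b⁆⁆ := by rw [mul_assoc, h2, ← mul_assoc]
    have h3 := hcom2 b' hb' _ (hΦ b hb)
    have h4 := hcom2 b hb _ hz
    have h5 : ⁅b', b⁆ * ⁅b', b⁆ = ⁅b', b * b⁆ * ⁅b, ⁅b', b⁆⁆ := by
      rw [h1, mul_assoc, h4, mul_one]
    have h6 : (⁅b', b⁆ * ⁅b', b⁆) * (⁅b', b⁆ * ⁅b', b⁆) = 1 := by
      rw [h5]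
      exact D.sq_mul h3 h4
    obtain ⟨k, rfl⟩ := Nat.exists_eq_add_of_le hm1
    rw [pow_add, pow_mul, (pow_four_iff _).mpr h6, one_pow]
  have hsq2 : ∀ b ∈ M, (b * b) ^ 2 ^ m * (b * b) ^ 2 ^ m = 1 := fun b hb => hpi2 _ (hΦ b hb)
  have hmul : ∀ b ∈ M, ∀ b' ∈ M,
      ((b * b') * (b * b')) ^ 2 ^ m = (b * b) ^ 2 ^ m * (b' * b') ^ 2 ^ m := by
    intro b hb b' hb'
    have hu := hnorm b hb _ (hcomX b' hb' b hb)
    rw [sq_mul_eq]
    have c1 : Commute (b * ⁅b', b⁆ * b⁻¹ * (b * b)) (b' * b') :=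
      hXc _ (X.mul_mem hu (hΦ b hb)) _ (hΦ b' hb')
    have c2 : Commute (b * ⁅b', b⁆ * b⁻¹) (b * b) := hXc _ hu _ (hΦ b hb)
    rw [c1.mul_pow, c2.mul_pow, conj_pow, hcom4 b hb b' hb', mul_one, mul_inv_cancel, one_mul]
  have hker : ∀ b ∈ M, (b * b) ^ 2 ^ m = 1 → b ∈ X := by
    intro b hb h
    obtain ⟨x, hxX, hxx⟩ := exists_root A hX hXc hz0 hz1 m le_rfl _ (hΦ b hb) h
    have h1 : (b * x⁻¹) * (b * x⁻¹) = (b * b) * ⁅b⁻¹, x⁻¹⁆ * (x * x)⁻¹ := by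
      rw [commutatorElement_def]; group
    have h2 := hcom2 b⁻¹ (M.inv_mem hb) x⁻¹ (X.inv_mem hxX)
    have h3 : (b * x⁻¹) * (b * x⁻¹) = ⁅b⁻¹, x⁻¹⁆ := by
      rw [h1, hxx, ← D.comm_of_sq h2 (b * b), mul_assoc, mul_inv_cancel, mul_one]
    -- a root of the commutator
    obtain ⟨c, hc, hcc⟩ := exists_root A hX hXc hz0 hz1 1 (by omega) ⁅b⁻¹, x⁻¹⁆
      (hcomX _ (M.inv_mem hb) _ (M.inv_mem (hXM hxX))) (by rw [pow_one, pow_two]; exact h2)
    have hcc2 : c ^ 2 ^ m = 1 := by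
      obtain ⟨k, rfl⟩ := Nat.exists_eq_add_of_le hm1
      rw [pow_add, pow_mul, (pow_four_iff _).mpr (by rw [hcc]; exact h2), one_pow]
    have h4 := hXm c hc hcc2
    have h5 : (b * x⁻¹ * c⁻¹) * (b * x⁻¹ * c⁻¹) = 1 := by
      have h6 : c⁻¹ * (b * x⁻¹) = (b * x⁻¹) * c⁻¹ := by
        rw [inv_mul_eq_iff_eq_mul, ← mul_assoc, h4 _ (M.mul_mem hb (M.inv_mem (hXM hxX))), mul_assoc,
          mul_inv_cancel, mul_one]
      calc (b * x⁻¹ * c⁻¹) * (b * x⁻¹ * c⁻¹) = (b * x⁻¹) * (c⁻¹ * (b * x⁻¹)) * c⁻¹ := by group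
        _ = ((b * x⁻¹) * (b * x⁻¹)) * (c * c)⁻¹ := by rw [h6]; group
        _ = 1 := by rw [h3, hcc, mul_inv_cancel]
    have h7 := sq_mem A hX hXne h5
    have h8 : b = (b * x⁻¹ * c⁻¹) * c * x := by group
    rw [h8]
    exact X.mul_mem (X.mul_mem h7 hc) hxX
  obtain ⟨b0, hb0, hb0X⟩ : ∃ b ∈ M, b ∉ X := by
    by_contra hcon
    push Not at hcon
    exact hna fun x hx y hy => hXc x (hcon x hx) y (hcon y hy)
  have hz : ∀ b ∈ M, ∀ x ∈ X, D.lg ⁅b, x⁆ = 0 := by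
    apply alt_pair A (hM _ A.mem) (hX _ A.mem) (fun b => D.lg ((b * b) ^ 2 ^ m))
      (fun x => D.lg (x ^ 2 ^ m)) (fun x y => D.lg ⁅x, y⁆)
    · intro x hx y hy
      rw [hmul x hx y hy, D.lg_mul (hsq2 x hx) (hsq2 y hy)]
    · intro x hx y hy
      have c1 : Commute x y := hXc x hx y hy
      rw [c1.mul_pow, D.lg_mul (hpi2 x hx) (hpi2 y hy)]
    · exact surj_of A hM (fun b => (b * b) ^ 2 ^ m) (fun h _ x _ => by
        rw [map_pow, map_mul]) (by rw [mul_one, one_pow]) hsq2 hb0 (fun h => hb0X (hker b0 hb0 h))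
    · exact surj_of A hX (fun b => b ^ 2 ^ m) (fun h _ x _ => by
        rw [map_pow]) (by rw [one_pow]) hpi2 hz0 hz1
    · intro x hx
      rw [← lg_h0 A (hsq2 x hx), map_pow, map_mul]
    · intro x hx
      rw [← lg_h0 A (hpi2 x hx), map_pow]
    · intro x hx x' hx' y hy
      rw [com_mul_left', ← D.comm_of_sq (hcom2 x' hx' y hy) x, mul_inv_cancel_right,
        D.lg_mul (hcom2 x' hx' y hy) (hcom2 x hx y hy), add_comm]
    · intro x hx y hy y' hy'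
      rw [com_mul_right', ← D.comm_of_sq (hcom2 x hx y' hy') y, mul_inv_cancel_right,
        D.lg_mul (hcom2 x hx y hy) (hcom2 x hx y' hy')]
    · intro x hx y hy
      rw [← lg_h0 A (hcom2 x hx y hy), map_com]
    · intro x hx y hy h
      have h1 := hker x hx (D.eq_one_of_lg (hsq2 x hx) h)
      rw [commutatorElement_eq_one_iff_mul_comm.mpr (hXc x h1 y hy), D.lg_one]
    · intro x hx y hy h
      have h1 := hXm y hy (D.eq_one_of_lg (hpi2 y hy) h) x hx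
      rw [commutatorElement_eq_one_iff_mul_comm.mpr h1.symm, D.lg_one]
    · intro b hb x hx h
      have h1 := D.eq_of_lg (hsq2 b hb) (hpi2 x hx) h
      have c1 : Commute (b * b) x⁻¹ := hXc _ (hΦ b hb) _ (X.inv_mem hx)
      have h2 : (b * b * x⁻¹) ^ 2 ^ m = 1 := by
        rw [c1.mul_pow, h1, inv_pow, mul_inv_cancel]
      have h3 := hXm _ (X.mul_mem (hΦ b hb) (X.inv_mem hx)) h2 b hb
      apply (congrArg D.lg (commutatorElement_eq_one_iff_mul_comm.mpr ?_)).trans D.lg_one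
      -- `x⁻¹ * b = b * x⁻¹`
      have h4 : x⁻¹ * b = b * x⁻¹ := by
        apply mul_left_cancel (a := b * b)
        calc b * b * (x⁻¹ * b) = b * b * x⁻¹ * b := by group
          _ = b * (b * b * x⁻¹) := h3
          _ = b * b * (b * x⁻¹) := by group
      rw [inv_mul_eq_iff_eq_mul, ← mul_assoc] at h4
      rw [eq_mul_inv_iff_mul_eq] at h4
      exact h4
  apply hna
  have hMX : M ≤ X := fun b hb => hcent b hb fun x hx =>
    commutatorElement_eq_one_iff_mul_comm.mp (D.eq_one_of_lg (hcom2 b hb x hx) (hz b hb x hx))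
  exact fun x hx y hy => hXc x (hMX hx) y (hMX hy)

end Main

end Cfsg.Agent.H448.Suz
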