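import Cfsg.Agent.H448.SuzArith
import Cfsg.Agent.H448.SuzField

/-!
# A transitive semilinear group contains many scalars
-/

set_option autoImplicit false

namespace Cfsg.Agent.H448.SuzSetup

open Cfsg.Agent.H448.SuzArith

variable {F : Type*} [Field F] [Finite F] [CharP F 2] {f : ℕ}

/-- Ring automorphisms as algebra automorphisms. -/
def autEquiv [Algebra (ZMod 2) F] : (F ≃+* F) ≃ (F ≃ₐ[ZMod 2] F) where
  toFun := fun σ => AlgEquiv.ofRingEquiv (f := σ) (fun r => by
          have := DFunLike.congr_fun (Subsingleton.elim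
            ((σ : F →+* F).comp (algebraMap (ZMod 2) F)) (algebraMap (ZMod 2) F)) r
          exact this)
  invFun := fun σ => (σ : F ≃+* F)
  left_inv := fun σ => by ext x; rfl
  right_inv := fun σ => by ext x; rfl

theorem finrank_eq [Algebra (ZMod 2) F] (hf : Nat.card F = 2 ^ f) : Module.finrank (ZMod 2) F = f := by
  have h1 : Nat.card F = Nat.card (ZMod 2) ^ Module.finrank (ZMod 2) F :=
    Module.natCard_eq_pow_finrank (K := ZMod 2) (V := F)
  rw [hf, Nat.card_zmod] at h1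
  exact (Nat.pow_right_injective (le_refl 2) h1).symm

theorem card_aut (hf : Nat.card F = 2 ^ f) : Nat.card (F ≃+* F) = f := by
  let _ : Algebra (ZMod 2) F := ZMod.algebra F 2
  have : IsGalois (ZMod 2) F := inferInstance
  rw [Nat.card_congr autEquiv, IsGalois.card_aut_eq_finrank, finrank_eq hf]

theorem exists_frob (hf : Nat.card F = 2 ^ f) (σ : F ≃+* F) : ∃ i < f, ∀ x, σ x = x ^ 2 ^ i := by
  let _ : Algebra (ZMod 2) F := ZMod.algebra F 2
  obtain ⟨⟨i, hi⟩, h⟩ := (FiniteField.bijective_frobeniusAlgEquivOfAlgebraic_pow (ZMod 2) F).2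
    (autEquiv σ)
  rw [finrank_eq hf] at hi
  refine ⟨i, hi, fun x => ?_⟩
  have h1 := DFunLike.congr_fun h x
  have h2 : autEquiv σ x = σ x := rfl
  rw [h2] at h1
  rw [← h1]
  have h3 : ∀ n : ℕ, (FiniteField.frobeniusAlgEquivOfAlgebraic (ZMod 2) F ^ n) x = x ^ 2 ^ n := by
    intro n
    induction n with
    | zero => rw [pow_zero, pow_zero, pow_one]; rfl
    | succ n ih =>
      rw [pow_succ', AlgEquiv.mul_apply, ih, FiniteField.coe_frobeniusAlgEquivOfAlgebraic,
        ZMod.card]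
      change (x ^ 2 ^ n) ^ 2 = _
      rw [← pow_mul, ← pow_succ]
  exact h3 i

theorem aut_comm (hf : Nat.card F = 2 ^ f) (σ τ : F ≃+* F) (x : F) : σ (τ x) = τ (σ x) := by
  obtain ⟨i, -, hi⟩ := exists_frob hf σ
  obtain ⟨j, -, hj⟩ := exists_frob hf τ
  rw [hi, hj, hi, hj, ← pow_mul, ← pow_mul, mul_comm]

theorem modEq_of_pow_eq {l : F} (hl : l ≠ 0) {a b : ℕ} (h : l ^ a = l ^ b) : a ≡ b [MOD orderOf l] := by
  have h1 : (Units.mk0 l hl) ^ a = (Units.mk0 l hl) ^ b := by
    ext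
    simpa using h
  have h2 := pow_eq_pow_iff_modEq.mp h1
  rw [← orderOf_units] at h2
  exact h2

variable {l : F} {d : ℕ}

theorem nt_aut (hf : Nat.card F = 2 ^ f) (hf2 : 2 ≤ f) (hl : l ≠ 0) (hd : d ∣ f)
    (hN : d * orderOf l = 2 ^ f - 1) (σ τ : F ≃+* F) (h : σ l * τ l = l) : σ = τ := by
  obtain ⟨i, hi', hi⟩ := exists_frob hf σ
  obtain ⟨j, hj', hj⟩ := exists_frob hf τ
  have h1 : l ^ (2 ^ i + 2 ^ j) = l ^ 1 := by rw [pow_add, ← hi, ← hj, h, pow_one]
  have h2 := nt1 hf2 hd hN hi' hj' (modEq_of_pow_eq hl h1)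
  subst h2
  ext x
  rw [hi, hj]

theorem sep_aut (hf : Nat.card F = 2 ^ f) (hf2 : 2 ≤ f) (hl : l ≠ 0) (hd : d ∣ f)
    (hN : d * orderOf l = 2 ^ f - 1) (g φ ψ : F ≃+* F) (h : g l * ψ l = l * g (φ l)) : φ = ψ := by
  obtain ⟨t, ht', ht⟩ := exists_frob hf g
  obtain ⟨i, hi', hi⟩ := exists_frob hf φ
  obtain ⟨j, hj', hj⟩ := exists_frob hf ψ
  have hij : i = j := by
    by_cases hi0 : i = 0
    · have h1 : φ l = l := by rw [hi, hi0, pow_zero, pow_one]
      have hg : g l ≠ 0 := by simpa using hl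
      rw [h1, mul_comm l] at h
      have h2 := mul_left_cancel₀ hg h
      rw [hj] at h2
      have h3 := nt0 hf2 hd hN hj' (modEq_of_pow_eq (b := 1) hl (by rw [pow_one]; exact h2))
      rw [hi0, h3]
    · by_cases hj0 : j = 0
      · have h1 : ψ l = l := by rw [hj, hj0, pow_zero, pow_one]
        rw [h1, mul_comm l] at h
        have h2 := mul_right_cancel₀ hl h
        have h3 := g.injective h2
        rw [hi] at h3
        have h4 := nt0 hf2 hd hN hi' (modEq_of_pow_eq (b := 1) hl (by rw [pow_one]; exact h3.symm))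
        exact absurd h4 hi0
      · have h1 : l ^ (2 ^ t + 2 ^ j) = l ^ (1 + 2 ^ (t + i)) := by
          rw [pow_add, ← ht, ← hj, h, pow_add, pow_one, pow_add, mul_comm (2 ^ t), pow_mul, ← hi, ← ht]
        exact nt2 hf2 hd hN hi' hj' ht' hi0 hj0 (modEq_of_pow_eq hl h1)
  subst hij
  ext x
  rw [hi, hj]

theorem ne_one (hf2 : 2 ≤ f) (hd : d ∣ f) (hN : d * orderOf l = 2 ^ f - 1) : l ≠ 1 := by
  rintro rfl
  rw [orderOf_one, mul_one] at hN
  have h1 := Nat.le_of_dvd (by omega) hd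
  have h2 : f + 1 < 2 ^ f := by
    obtain ⟨k, rfl⟩ := Nat.exists_eq_add_of_le hf2
    clear hd hN h1 hf2
    induction k with
    | zero => norm_num
    | succ k ih =>
      have : 2 ^ (2 + (k + 1)) = 2 * 2 ^ (2 + k) := by ring
      omega
  omega

/-- The structure of a transitive semilinear group. -/
theorem exists_scalar (hf : Nat.card F = 2 ^ f) {K : Type*} [Group K] [Finite K] [MulAction K F]
    (faith : ∀ g : K, (∀ a : F, g • a = a) → g = 1)
    (semi : ∀ g : K, ∃ (c : F) (φ : F ≃+* F), c ≠ 0 ∧ ∀ a : F, g • a = c * φ a)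
    (tr : ∀ a b : F, a ≠ 0 → b ≠ 0 → ∃ g : K, g • a = b) :
    ∃ (g0 : K) (l : F) (d : ℕ), l ≠ 0 ∧ (∀ a : F, g0 • a = l * a) ∧ d ∣ f ∧
      d * orderOf l = 2 ^ f - 1 := by
  classical
  choose c φ hc0 hcφ using semi
  have hc1 : ∀ g : K, c g = g • (1 : F) := fun g => by rw [hcφ, map_one, mul_one]
  have hcm : ∀ g h : K, c (g * h) = c g * φ g (c h) := by
    intro g h
    rw [hc1, mul_smul, ← hc1 h, hcφ]
  have hφm : ∀ g h : K, ∀ a, φ (g * h) a = φ g (φ h a) := by
    intro g h a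
    have h1 := hcφ (g * h) a
    rw [mul_smul, hcφ h, hcφ g, map_mul, hcm, ← mul_assoc] at h1
    have h2 : c g * φ g (c h) ≠ 0 := by rw [← hcm]; exact hc0 _
    exact (mul_left_cancel₀ h2 h1).symm
  let Ψ : K →* RingAut F := MonoidHom.mk' φ (by
    intro g h
    ext a
    exact hφm g h a)
  have hΨ : ∀ g, Ψ g = φ g := fun g => rfl
  have hker : ∀ g : Ψ.ker, ∀ a, φ g a = a := by
    intro g a
    have h1 : Ψ g = 1 := g.2
    rw [← hΨ, h1]
    rfl
  let χ : Ψ.ker →* F :=
    { toFun := fun g => c g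
      map_one' := by
        change c ((1 : Ψ.ker) : K) = 1
        rw [hc1]
        exact one_smul K (1 : F)
      map_mul' := fun g h => by
        change c ((g * h : Ψ.ker) : K) = c g * c h
        rw [Subgroup.coe_mul, hcm, hker g] }
  have hχ : ∀ g : Ψ.ker, χ g = c g := fun g => rfl
  have hχinj : Function.Injective χ := by
    intro g h hgh
    rw [hχ, hχ] at hgh
    apply Subtype.ext
    rw [← inv_mul_eq_one]
    apply faith
    intro a
    rw [mul_smul, inv_smul_eq_iff, hcφ, hcφ, hker g, hker h, hgh]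
  have hcyc : IsCyclic Ψ.ker := isCyclic_of_injective_ringHom χ hχinj
  obtain ⟨g0, hg0⟩ := hcyc.exists_generator
  have hord : orderOf (χ g0) = Nat.card Ψ.ker := by
    rw [orderOf_injective χ hχinj]
    exact orderOf_eq_card_of_forall_mem_zpowers hg0
  have hl0 : χ g0 ≠ 0 := hc0 _
  -- the orbit
  have horb : 2 ^ f - 1 ∣ Nat.card K := by
    have h1 : (MulAction.orbit K (1 : F)) = {x | x ≠ 0} := by
      ext x
      constructor
      · rintro ⟨g, rfl⟩
        change g • (1 : F) ≠ 0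
        rw [hcφ, map_one, mul_one]
        exact hc0 g
      · intro hx
        exact tr 1 x one_ne_zero hx
    have h2 := MulAction.index_stabilizer K (1 : F)
    rw [h1] at h2
    have h3 : ({x : F | x ≠ 0}).ncard = 2 ^ f - 1 := by
      have h4 : ({x : F | x ≠ 0}) = Set.univ \ {0} := by ext x; simp
      rw [h4, Set.ncard_sdiff_singleton_of_mem (Set.mem_univ _), Set.ncard_univ, hf]
    rw [← h3, ← h2]
    exact Subgroup.index_dvd_card _
  have hcard : Nat.card K = Nat.card Ψ.ker * Nat.card Ψ.range := by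
    rw [← Subgroup.index_ker, Subgroup.card_mul_index]
  have hrange : Nat.card Ψ.range ∣ f := by
    have h1 := Subgroup.card_subgroup_dvd_card Ψ.range
    have h2 : Nat.card (RingAut F) = f := card_aut hf
    rw [h2] at h1
    exact h1
  have hNdvd : orderOf (χ g0) ∣ 2 ^ f - 1 := by
    apply orderOf_dvd_of_pow_eq_one
    have := Fintype.ofFinite F
    have h1 := FiniteField.pow_card_sub_one_eq_one (χ g0) hl0
    rw [← Nat.card_eq_fintype_card, hf] at h1
    exact h1
  obtain ⟨d, hd⟩ := hNdvd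
  refine ⟨g0, χ g0, d, hl0, ?_, ?_, by rw [mul_comm]; exact hd.symm⟩
  · intro a
    rw [hcφ, hker g0, hχ]
  · rw [hcard, ← hord, hd] at horb
    have h1 : 0 < orderOf (χ g0) := by rw [hord]; exact Nat.card_pos
    exact ((Nat.mul_dvd_mul_iff_left h1).mp horb).trans hrange

end Cfsg.Agent.H448.SuzSetup
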