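import Cfsg.Agent.H448.SuzOdd
import Cfsg.Agent.H448.SuzSetup
import Cfsg.Agent.H448.SuzFinal
import Cfsg.Agent.PermutationGroups.HalfTransGalois

/-!
# 2-groups with a solvable group of automorphisms transitive on the involutions

A finite non-abelian 2-group with at least two involutions and a solvable group of automorphisms
transitive on the involutions: all fourth powers are trivial and the centre consists of the elements
of square one.
-/

set_option autoImplicit false

namespace Cfsg.Agent.H448.SuzSolv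

open Cfsg.Agent.H448.Suz
open scoped commutatorElement

variable {G : Type*} [Group G]

/-- The subgroup of the elements of square one. -/
def E (hc : ∀ x : G, x * x = 1 → ∀ g : G, x * g = g * x) : Subgroup G where
  carrier := {x | x * x = 1}
  one_mem' := mul_one 1
  mul_mem' := fun {x y} hx hy => by
    have hx' : x * x = 1 := hx
    have hy' : y * y = 1 := hy
    change (x * y) * (x * y) = 1
    calc (x * y) * (x * y) = x * (y * x) * y := by group
      _ = (x * x) * (y * y) := by rw [← hc x hx' y]; group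
      _ = 1 := by rw [hx', hy', mul_one]
  inv_mem' := fun {x} hx => by
    have hx' : x * x = 1 := hx
    change x⁻¹ * x⁻¹ = 1
    rw [← mul_inv_rev, hx', inv_one]

theorem mem_E {hc : ∀ x : G, x * x = 1 → ∀ g : G, x * g = g * x} {x : G} : x ∈ E hc ↔ x * x = 1 :=
  Iff.rfl

/-- Restriction of automorphisms. -/
def res (hc : ∀ x : G, x * x = 1 → ∀ g : G, x * g = g * x) : MulAut G →* MulAut (E hc) where
  toFun := fun h =>
    { toFun := fun x => ⟨h x, by
        have hx : (x : G) * x = 1 := x.2
        change h x * h x = 1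
        rw [← map_mul, hx, map_one]⟩
      invFun := fun x => ⟨h⁻¹ x, by
        have hx : (x : G) * x = 1 := x.2
        change h⁻¹ (x : G) * h⁻¹ (x : G) = 1
        rw [← map_mul, hx, map_one]⟩
      left_inv := fun x => Subtype.ext (MulAut.inv_apply_self _ _ _)
      right_inv := fun x => Subtype.ext (MulAut.apply_inv_self _ _ _)
      map_mul' := fun x y => Subtype.ext (map_mul h _ _) }
  map_one' := rfl
  map_mul' := fun g h => rfl

theorem res_apply (hc : ∀ x : G, x * x = 1 → ∀ g : G, x * g = g * x) (h : MulAut G) (x : E hc) :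
    ((res hc h x : E hc) : G) = h x := rfl

variable [Finite G]

theorem main (hG : IsPGroup 2 G) (hna : ¬ IsMulCommutative G)
    (htwo : ∃ x y : G, x ≠ y ∧ x ≠ 1 ∧ x ^ 2 = 1 ∧ y ≠ 1 ∧ y ^ 2 = 1)
    (hY : ∃ Y : Subgroup (MulAut G), Group.IsSolvable Y ∧
      ∀ x y : G, x ≠ 1 → x ^ 2 = 1 → y ≠ 1 → y ^ 2 = 1 → ∃ a ∈ Y, a x = y) :
    (∀ x g : G, x * x = 1 → x * g = g * x) ∧ (∀ x : G, (x * x) * (x * x) = 1) ∧
      (∀ x : G, (∀ g : G, x * g = g * x) → x * x = 1) ∧
      ∀ N : Subgroup G, N.Characteristic → N ≠ ⊥ → ∀ x : G, x * x = 1 → x ∈ N := by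
  classical
  have h2f : Fact (Nat.Prime 2) := ⟨Nat.prime_two⟩
  obtain ⟨x1, y1, hxy1, hx1, hx1', hy1, hy1'⟩ := htwo
  obtain ⟨Y, hYs, htr⟩ := hY
  have hnt : Nontrivial G := ⟨⟨x1, 1, hx1⟩⟩
  -- the involutions are central
  have hc : ∀ x : G, x * x = 1 → ∀ g : G, x * g = g * x := by
    have hcn : Nontrivial (Subgroup.center G) := hG.center_nontrivial
    obtain ⟨⟨z, hzc⟩, hz1⟩ := exists_ne (1 : Subgroup.center G)
    have hz1' : z ≠ 1 := fun h => hz1 (Subtype.ext h)
    obtain ⟨k, hk1, hk2⟩ := exists_pow_involution hG hz1'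
    have hkc : z ^ 2 ^ k ∈ Subgroup.center G := Subgroup.pow_mem _ hzc _
    intro x hx g
    by_cases hx1 : x = 1
    · rw [hx1, one_mul, mul_one]
    obtain ⟨a, -, ha⟩ := htr _ x hk1 (by rw [pow_two]; exact hk2) hx1 (by rw [pow_two]; exact hx)
    have h1 := Subgroup.mem_center_iff.mp hkc (a⁻¹ g)
    have h2 := congrArg a h1
    rw [map_mul, map_mul, MulAut.apply_inv_self, ha] at h2
    exact h2.symm
  set EE : Subgroup G := E hc with hEE
  -- the set of the involutions has odd size
  have hE2 : IsPGroup 2 EE := hG.to_subgroup _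
  set S : Set G := {x | x ≠ 1 ∧ x * x = 1} with hS
  have hScard : S.ncard = Nat.card EE - 1 := by
    have h1 : S = (EE : Set G) \ {1} := by
      ext x
      constructor
      · rintro ⟨h1, h2⟩; exact ⟨h2, h1⟩
      · rintro ⟨h1, h2⟩; exact ⟨h2, h1⟩
    rw [h1, Set.ncard_sdiff_singleton_of_mem EE.one_mem]
    rfl
  have hx1E : x1 ∈ EE := by rw [hEE, mem_E, ← pow_two]; exact hx1'
  have hy1E : y1 ∈ EE := by rw [hEE, mem_E, ← pow_two]; exact hy1'
  have hEnt : Nontrivial EE := ⟨⟨⟨x1, hx1E⟩, 1, fun h => hx1 (congrArg Subtype.val h)⟩⟩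
  obtain ⟨k, hk⟩ := IsPGroup.iff_card.mp hE2
  have hk3 : 3 ≤ Nat.card EE := by
    have h1 : ({1, x1, y1} : Set G) ⊆ (EE : Set G) := by
      rintro z (rfl | rfl | rfl)
      · exact EE.one_mem
      · exact hx1E
      · exact hy1E
    have h2 := Set.ncard_le_ncard h1 (Set.toFinite _)
    rw [Set.ncard_eq_three.mpr ⟨1, x1, y1, hx1.symm, hy1.symm, hxy1, rfl⟩] at h2
    exact h2
  have hSodd : Odd S.ncard := by
    rw [hScard, hk]
    rw [hk] at hk3
    have hk0 : k ≠ 0 := by rintro rfl; omega
    have h1 : Even (2 ^ k) := (Nat.even_pow' hk0).mpr even_two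
    rw [← Nat.not_even_iff_odd]
    intro h2
    rw [Nat.even_iff] at h1 h2
    omega
  obtain ⟨H, hHY, hHodd, hHtr⟩ := Cfsg.Agent.H448.SuzOdd.exists_odd hYs S hSodd
    (by
      rintro g - x ⟨h1, h2⟩
      refine ⟨fun h => h1 ?_, ?_⟩
      · exact (MulEquiv.map_eq_one_iff g).mp h
      · change g x * g x = 1
        rw [← map_mul, h2, map_one])
    (by
      rintro x ⟨h1, h2⟩ y ⟨h3, h4⟩
      exact htr x y h1 (by rw [pow_two]; exact h2) h3 (by rw [pow_two]; exact h4))
  -- the action on the involutions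
  let H' : Subgroup (MulAut EE) := H.map (res hc)
  have hH'odd : Odd (Nat.card H') := hHodd.of_dvd_nat (Subgroup.card_map_dvd (H := H) (res hc))
  have hHs : Group.IsSolvable H :=
    Group.isSolvable_of_isSolvable_injective (f := Subgroup.inclusion hHY) (Subgroup.inclusion_injective hHY)
  have hH's : Group.IsSolvable H' := by
    have h1 : Function.Surjective ((res hc).subgroupMap H) := (res hc).subgroupMap_surjective H
    exact Group.isSolvable_of_surjective h1
  let hcommE : AddCommGroup (Additive EE) :=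
    { (inferInstance : AddGroup (Additive EE)) with
      add_comm := fun v w => by
        apply congrArg Additive.ofMul
        apply Subtype.ext
        exact hc _ (Additive.toMul v).2 _ }
  let act : DistribMulAction H' (Additive EE) :=
    { smul := fun h v => Additive.ofMul (h.1 (Additive.toMul v))
      one_smul := fun v => rfl
      mul_smul := fun g h v => rfl
      smul_zero := fun g => congrArg Additive.ofMul (map_one g.1)
      smul_add := fun g v w => congrArg Additive.ofMul (map_mul g.1 _ _) }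
  have hact : ∀ (h : H') (v : Additive EE), h • v = Additive.ofMul (h.1 (Additive.toMul v)) :=
    fun h v => rfl
  have hpV : ∀ v : Additive EE, 2 • v = 0 := by
    intro v
    rw [two_nsmul]
    apply congrArg Additive.ofMul
    apply Subtype.ext
    exact (Additive.toMul v).2
  have hfaith : FaithfulSMul H' (Additive EE) := ⟨by
    intro g h hgh
    apply Subtype.ext
    ext x
    exact congrArg Subtype.val (congrArg Additive.toMul (hgh (Additive.ofMul x)))⟩
  have hne : ∀ v : Additive EE, v ≠ 0 → ((Additive.toMul v : EE) : G) ∈ S := by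
    intro v hv
    refine ⟨fun h => hv ?_, (Additive.toMul v).2⟩
    apply congrArg Additive.ofMul
    exact Subtype.ext h
  have hT : ∀ v w : Additive EE, v ≠ 0 → w ≠ 0 → ∃ h : H', h • v = w := by
    intro v w hv hw
    obtain ⟨g, hg, hgv⟩ := hHtr _ (hne v hv) _ (hne w hw)
    refine ⟨⟨res hc g, ⟨g, hg, rfl⟩⟩, ?_⟩
    apply congrArg Additive.ofMul
    exact Subtype.ext hgv
  obtain ⟨f, θ, hcard, hsemi⟩ :=
    Cfsg.Agent.PermutationGroups.HalfTransGalois.exists_galois 2 hpV hH's hH'odd
      (fun v w hv hw => by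
        obtain ⟨h, hh⟩ := hT v w hv hw
        exact ⟨h, Or.inl hh⟩)
  -- the field
  let F := GaloisField 2 f
  have hFfin : Finite F := Finite.of_equiv _ θ.toEquiv
  have hcardF : Nat.card F = 2 ^ f := by rw [← hcard]; exact (Nat.card_congr θ.toEquiv).symm
  have hf2 : 2 ≤ f := by
    have h1 : 3 ≤ 2 ^ f := by
      rw [← hcard]
      exact hk3
    by_contra hlt
    push Not at hlt
    interval_cases f <;> omega
  let actF : MulAction H' F :=
    { smul := fun h a => θ (h • θ.symm a)
      one_smul := fun a => by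
        change θ ((1 : H') • θ.symm a) = a
        rw [one_smul, AddEquiv.apply_symm_apply]
      mul_smul := fun g h a => by
        change θ ((g * h) • θ.symm a) = θ (g • θ.symm (θ (h • θ.symm a)))
        rw [AddEquiv.symm_apply_apply, mul_smul] }
  have hactF : ∀ (h : H') (a : F), h • a = θ (h • θ.symm a) := fun h a => rfl
  have hsemiF : ∀ g : H', ∃ (c : F) (φ : F ≃+* F), c ≠ 0 ∧ ∀ a : F, g • a = c * φ a := by
    intro g
    obtain ⟨c, φ, hcφ⟩ := hsemi g
    refine ⟨c, φ, c.ne_zero, fun a => ?_⟩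
    rw [hactF, hcφ, AddEquiv.apply_symm_apply]
  obtain ⟨g0, l, d, hl0, hg0, hd, hN⟩ := Cfsg.Agent.H448.SuzSetup.exists_scalar hcardF (K := H')
    (by
      intro g hg
      apply FaithfulSMul.eq_of_smul_eq_smul (α := Additive EE)
      intro v
      rw [one_smul]
      have h1 := hg (θ v)
      rw [hactF, AddEquiv.symm_apply_apply] at h1
      exact θ.injective h1)
    hsemiF
    (by
      intro a b ha hb
      obtain ⟨g, hg⟩ := hT (θ.symm a) (θ.symm b) (by simpa using ha) (by simpa using hb)
      refine ⟨g, ?_⟩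
      rw [hactF, hg, AddEquiv.apply_symm_apply])
  obtain ⟨h0, hh0, hh0g⟩ := g0.2
  -- the data
  let D : SData G F :=
    { e := fun a => ((Additive.toMul (θ.symm a) : EE) : G)
      add := fun a b => by
        rw [map_add]
        rfl
      inj := fun a b h => θ.symm.injective (Additive.toMul.injective (Subtype.ext h))
      sq := fun x => by
        constructor
        · intro h
          refine ⟨θ (Additive.ofMul ⟨x, h⟩), ?_⟩
          rw [AddEquiv.symm_apply_apply]
          rfl
        · rintro ⟨a, rfl⟩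
          exact (Additive.toMul (θ.symm a)).2
      cen := fun a g => hc _ (Additive.toMul (θ.symm a)).2 g }
  have hDe : ∀ a, D.e a = ((Additive.toMul (θ.symm a) : EE) : G) := fun a => rfl
  have hDact : ∀ (h : MulAut G) (hh : h ∈ H) (a : F),
      h (D.e a) = D.e ((⟨res hc h, ⟨h, hh, rfl⟩⟩ : H') • a) := by
    intro h hh a
    rw [hactF, hDe, hDe, AddEquiv.symm_apply_apply]
    rfl
  have A : HData D H h0 l :=
    { semi := fun h hh => by
        obtain ⟨c, φ, hc0, hcφ⟩ := hsemiF ⟨res hc h, ⟨h, hh, rfl⟩⟩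
        exact ⟨c, φ, hc0, fun a => by rw [hDact h hh, hcφ]⟩
      tr := fun a b ha hb => by
        have h1 : D.e a ∈ S := hne _ (by simpa using ha)
        have h2 : D.e b ∈ S := hne _ (by simpa using hb)
        exact hHtr _ h1 _ h2
      mem := hh0
      hl := fun a => by
        rw [hDact h0 hh0]
        have : (⟨res hc h0, ⟨h0, hh0, rfl⟩⟩ : H') = g0 := Subtype.ext hh0g
        rw [this, hg0]
      l0 := hl0
      l1 := Cfsg.Agent.H448.SuzSetup.ne_one hf2 hd hN
      nt := Cfsg.Agent.H448.SuzSetup.nt_aut hcardF hf2 hl0 hd hN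
      sep := Cfsg.Agent.H448.SuzSetup.sep_aut hcardF hf2 hl0 hd hN
      comm := Cfsg.Agent.H448.SuzSetup.aut_comm hcardF
      two := hG }
  have hTop : Inv H (⊤ : Subgroup G) := fun h _ m _ => Subgroup.mem_top _
  have hnab : ¬ Ab (⊤ : Subgroup G) := by
    intro h
    exact hna ⟨⟨fun x y => h x (Subgroup.mem_top _) y (Subgroup.mem_top _)⟩⟩
  have hTy : Ty (⊤ : Subgroup G) := (dichotomy A _ ⊤ hTop le_rfl).resolve_left hnab
  refine ⟨fun x g hx => hc x hx g, fun x => hTy x (Subgroup.mem_top _), fun x hx => ?_, ?_⟩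
  · exact central_sq A hTop hTy hnab (Subgroup.mem_top x) fun g _ => hx g
  · intro N hN hNe x hx
    refine sq_mem A (N := N) ?_ hNe hx
    intro h _ m hm
    have h1 := (Subgroup.characteristic_iff_map_eq.mp hN) h
    rw [← h1]
    exact ⟨m, hm, rfl⟩

end Cfsg.Agent.H448.SuzSolv
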