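import Cfsg.Agent.H448.SuzPair

/-!
# The main argument on Suzuki 2-groups

`H` is a group of automorphisms acting on the involutions by semilinear maps of the field `F`, transitively,
and `h0 ∈ H` acts as the multiplication by `l`.
-/

set_option autoImplicit false

namespace Cfsg.Agent.H448.Suz

open Cfsg.Agent.H448.SuzField Cfsg.Agent.LieRecognition.FieldAutBasis
open scoped commutatorElement

variable {G : Type*} [Group G] {F : Type*} [Field F]

/-- The action of `H`. -/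
structure HData (D : SData G F) (H : Subgroup (MulAut G)) (h0 : MulAut G) (l : F) : Prop where
  semi : ∀ h ∈ H, ∃ (c : F) (φ : F ≃+* F), c ≠ 0 ∧ ∀ a, h (D.e a) = D.e (c * φ a)
  tr : ∀ a b : F, a ≠ 0 → b ≠ 0 → ∃ h ∈ H, h (D.e a) = D.e b
  mem : h0 ∈ H
  hl : ∀ a, h0 (D.e a) = D.e (l * a)
  l0 : l ≠ 0
  l1 : l ≠ 1
  nt : ∀ σ τ : F ≃+* F, σ l * τ l = l → σ = τ
  sep : ∀ g φ ψ : F ≃+* F, g l * ψ l = l * g (φ l) → φ = ψ
  comm : ∀ (σ τ : F ≃+* F) (x : F), σ (τ x) = τ (σ x)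
  two : IsPGroup 2 G

/-- Invariance of a subgroup. -/
def Inv (H : Subgroup (MulAut G)) (M : Subgroup G) : Prop := ∀ h ∈ H, ∀ m ∈ M, h m ∈ M

/-- A nontrivial element of a 2-group has a power of order two. -/
theorem exists_pow_involution (hG : IsPGroup 2 G) {z : G} (hz : z ≠ 1) :
    ∃ k : ℕ, z ^ 2 ^ k ≠ 1 ∧ z ^ 2 ^ k * z ^ 2 ^ k = 1 := by
  classical
  have hex : ∃ k : ℕ, z ^ 2 ^ k = 1 := hG z
  set n := Nat.find hex with hn
  have h1 : z ^ 2 ^ n = 1 := Nat.find_spec hex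
  have h0 : n ≠ 0 := by
    intro h
    rw [h, pow_zero, pow_one] at h1
    exact hz h1
  obtain ⟨m, hm⟩ := Nat.exists_eq_succ_of_ne_zero h0
  refine ⟨m, Nat.find_min hex (by omega), ?_⟩
  rw [← pow_add, ← two_mul, ← pow_succ', ← Nat.succ_eq_add_one, ← hm]
  exact h1

section Main

variable {D : SData G F} {H : Subgroup (MulAut G)} {h0 : MulAut G} {l : F}
  (A : HData D H h0 l) {M Y X : Subgroup G}

include A

theorem fixed_eq_one {z : G} (hz : h0 z = z) : z = 1 := by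
  by_contra hne
  obtain ⟨k, hk1, hk2⟩ := exists_pow_involution A.two hne
  obtain ⟨a, ha⟩ := (D.sq _).mp hk2
  have h1 : h0 (D.e a) = D.e a := by rw [ha, map_pow, hz]
  rw [A.hl] at h1
  have h2 := D.inj h1
  have h3 : a = 0 := by
    by_contra ha0
    exact A.l1 (mul_right_cancel₀ ha0 (by rw [h2, one_mul]))
  rw [h3, D.e_zero] at ha
  exact hk1 ha.symm

variable [Finite G]

/-- An element acting by a scalar is in `X`. -/
theorem scal (P : Pair D M Y X) (hM : Inv H M) (hY : Inv H Y) (hX : Inv H X) {b : G} (hb : b ∈ M)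
    {a : F} (ha : ∀ y, P.bet b y = a * y) : b ∈ X := by
  have hb0 : h0 b ∈ M := hM _ A.mem b hb
  have h1 : ∀ y, P.bet (h0 b) y = a * y := by
    intro y
    have h2 := P.bet_equiv A.hl (hY _ A.mem) (hM _ A.mem) hb (l⁻¹ * y)
    rw [mul_inv_cancel_left₀ A.l0, ha] at h2
    rw [h2]
    rw [mul_left_comm, mul_inv_cancel_left₀ A.l0]
  have h2 : (h0 b)⁻¹ * b ∈ X := by
    apply P.mem_X_of_bet (M.mul_mem (M.inv_mem hb0) hb)
    intro y
    rw [P.bet_mul (M.inv_mem hb0) hb, P.bet_inv hb0, h1, ha, neg_add_cancel]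
  have hinj : Function.Injective (fun x : X => (⟨h0 x * (x : G)⁻¹,
      X.mul_mem (hX _ A.mem x x.2) (X.inv_mem x.2)⟩ : X)) := by
    rintro ⟨x, hx⟩ ⟨y, hy⟩ h
    have h3 : h0 x * x⁻¹ = h0 y * y⁻¹ := congrArg Subtype.val h
    have h4 : h0 (y⁻¹ * x) = y⁻¹ * x := by
      have h5 : h0 x = h0 y * y⁻¹ * x := by rw [← h3]; group
      rw [map_mul, map_inv, h5]
      group
    have h5 := fixed_eq_one A h4
    exact Subtype.ext (inv_mul_eq_one.mp h5).symm
  have hsurj := Finite.surjective_of_injective hinj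
  obtain ⟨⟨x, hx⟩, hxx⟩ := hsurj ⟨_, h2⟩
  have h3 : h0 x * x⁻¹ = (h0 b)⁻¹ * b := congrArg Subtype.val hxx
  have h4 : h0 (b * x) = b * x := by
    have h5 : h0 x = (h0 b)⁻¹ * b * x := by rw [← h3]; group
    rw [map_mul, h5]
    group
  have h5 := fixed_eq_one A h4
  have h6 : b = x⁻¹ := mul_eq_one_iff_eq_inv.mp h5
  rw [h6]
  exact X.inv_mem hx

variable [Finite F] [CharP F 2]

/-- The components of the pairing with `b` come from elements of `M`. -/
theorem exists_component [Fintype (F ≃+* F)] (P : Pair D M Y X) (hM : Inv H M) (hY : Inv H Y)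
    {b : G} (hb : b ∈ M) :
    ∃ c : (F ≃+* F) → F, (∀ x, P.bet b x = ∑ σ, c σ * σ x) ∧
      ∀ σ, ∃ b' ∈ M, ∀ x, P.bet b' x = c σ * σ x := by
  obtain ⟨c, hc, -⟩ := existsUnique_coeff 2 (P.betHom hb)
  refine ⟨c, hc, fun σ => ?_⟩
  have h1 : P.betHom hb ∈ P.V := ⟨b, hb, fun a => rfl⟩
  have h2 : ∀ v ∈ P.V, conj l v ∈ P.V := by
    rintro v ⟨b1, hb1, hv⟩
    refine ⟨h0 b1, hM _ A.mem _ hb1, fun a => ?_⟩
    rw [conj_apply, hv]
    have h3 := P.bet_equiv A.hl (hY _ A.mem) (hM _ A.mem) hb1 (l⁻¹ * a)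
    rw [mul_inv_cancel_left₀ A.l0] at h3
    exact h3.symm
  obtain ⟨b', hb', h3⟩ := component_mem A.l0 A.sep P.V h2 h1 c hc σ
  exact ⟨b', hb', fun x => by rw [← h3, term_apply]⟩

/-- To prove `M ≤ K` it is enough to treat the elements with one component. -/
theorem le_of_typed (P : Pair D M Y X) (hM : Inv H M) (hY : Inv H Y) {K : Subgroup G} (hXK : X ≤ K)
    (hKM : K ≤ M)
    (hK : ∀ b ∈ M, ∀ (a : F) (σ : F ≃+* F), (∀ x, P.bet b x = a * σ x) → b ∈ K) : M ≤ K := by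
  classical
  have : Finite (F ≃+* F) := Finite.of_injective (fun σ : F ≃+* F => (σ : F → F)) DFunLike.coe_injective
  let _ : Fintype (F ≃+* F) := Fintype.ofFinite _
  intro b hb
  obtain ⟨c, hc, hc'⟩ := exists_component A P hM hY hb
  have key : ∀ s : Finset (F ≃+* F), ∃ b1 ∈ K, ∀ x, P.bet b1 x = ∑ σ ∈ s, c σ * σ x := by
    intro s
    induction s using Finset.induction_on with
    | empty => exact ⟨1, K.one_mem, fun x => by rw [P.bet_one, Finset.sum_empty]⟩
    | insert σ s hσ ih =>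
      obtain ⟨b1, hb1, h1⟩ := ih
      obtain ⟨b2, hb2, h2⟩ := hc' σ
      refine ⟨b2 * b1, K.mul_mem (hK b2 hb2 _ σ h2) hb1, fun x => ?_⟩
      rw [P.bet_mul hb2 (hKM hb1), h1, h2, Finset.sum_insert hσ]
  obtain ⟨b1, hb1, h1⟩ := key Finset.univ
  have h2 : b1⁻¹ * b ∈ X := by
    apply P.mem_X_of_bet (M.mul_mem (M.inv_mem (hKM hb1)) hb)
    intro x
    rw [P.bet_mul (M.inv_mem (hKM hb1)) hb, P.bet_inv (hKM hb1), h1, hc, neg_add_cancel]
  have h3 : b = b1 * (b1⁻¹ * b) := by group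
  rw [h3]
  exact K.mul_mem hb1 (hXK h2)

/-- If all the pairings are idempotent then `M = X`. -/
theorem le_of_idem (P : Pair D M Y X) (hM : Inv H M) (hY : Inv H Y) (hX : Inv H X)
    (hid : ∀ b ∈ M, ∀ a, P.bet b (P.bet b a) = P.bet b a) : M ≤ X := by
  apply le_of_typed A P hM hY le_rfl P.XM
  intro b hb a σ hσ
  by_cases ha : a = 0
  · apply P.mem_X_of_bet hb
    intro x
    rw [hσ, ha, zero_mul]
  · have h1 : ∀ x, a * σ (a * σ x) = a * σ x := by
      intro x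
      have := hid b hb x
      rw [hσ, hσ] at this
      exact this
    have h2 : ∀ x, a * σ x = x := by
      intro x
      have h3 := mul_left_cancel₀ ha (h1 x)
      exact σ.injective h3
    apply scal A P hM hY hX hb (a := 1)
    intro y
    rw [hσ, h2, one_mul]

end Main

/-! ### Exponent four -/

section Four

variable {D : SData G F} {M X : Subgroup G} (P : Pair D M X X)

include P

theorem E_mem {z : G} (hz : z * z = 1) : z ∈ X := by
  obtain ⟨a, rfl⟩ := (D.sq z).mp hz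
  obtain ⟨y, hy, h⟩ := P.root a
  rw [← h]
  exact X.mul_mem hy hy

theorem norm_mem {b x : G} (hb : b ∈ M) (hx : x ∈ X) : b * x * b⁻¹ ∈ X := by
  have h1 : b * x * b⁻¹ = ⁅b, x⁆ * x := by rw [commutatorElement_def]; group
  rw [h1]
  exact X.mul_mem (E_mem P (P.com b hb x hx)) hx

theorem com_mem {b b' : G} (hb : b ∈ M) (hb' : b' ∈ M) : ⁅b, b'⁆ ∈ X := by
  have h1 : ⁅b, b'⁆ = ((b * b') * (b * b')) * (b'⁻¹ * (b * b)⁻¹ * b'⁻¹⁻¹) * (b' * b')⁻¹ := by
    rw [commutatorElement_def]; group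
  rw [h1]
  exact X.mul_mem (X.mul_mem (P.sqX _ (M.mul_mem hb hb'))
    (norm_mem P (M.inv_mem hb') (X.inv_mem (P.sqX b hb)))) (X.inv_mem (P.sqX b' hb'))

omit P in
/-- The fourth power. -/
noncomputable def Q (D : SData G F) (b : G) : F := D.lg ((b * b) * (b * b))

omit P in
/-- The square of the commutator. -/
noncomputable def C (D : SData G F) (b b' : G) : F := D.lg (⁅b, b'⁆ * ⁅b, b'⁆)

theorem e_C {b b' : G} (hb : b ∈ M) (hb' : b' ∈ M) : D.e (C D b b') = ⁅b, b'⁆ * ⁅b, b'⁆ :=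
  D.e_lg (P.Y4 _ (com_mem P hb hb'))

theorem bet_Q {b : G} (hb : b ∈ M) : P.bet b (Q D b) = 0 := by
  rw [Q, P.bet_lg hb (P.sqX b hb)]
  have h1 : ⁅b, b * b⁆ = 1 := by rw [commutatorElement_def]; group
  rw [h1, D.lg_one]

theorem C_symm {b b' : G} (hb : b ∈ M) (hb' : b' ∈ M) : C D b b' = C D b' b := by
  have h1 := P.Y4 _ (com_mem P hb hb')
  have h2 : ⁅b', b⁆ * ⁅b', b⁆ = (⁅b, b'⁆ * ⁅b, b'⁆)⁻¹ := by
    rw [commutatorElement_def, commutatorElement_def]; group
  rw [C, C, h2, inv_eq_of_mul_eq_one_right h1]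

theorem bet_Q' {b b' : G} (hb : b ∈ M) (hb' : b' ∈ M) :
    P.bet b' (Q D b) = C D b' b + P.bet b (C D b' b) := by
  rw [Q, P.bet_lg hb' (P.sqX b hb)]
  have hz := com_mem P hb' hb
  have hz4 := P.Y4 _ hz
  have hc := P.com b hb _ hz
  rw [C, P.bet_lg hb hz, ← D.lg_mul hz4 hc]
  congr 1
  have h1 := D.comm_of_sq hc
  calc ⁅b', b * b⁆ = ⁅b', b⁆ * ⁅b, ⁅b', b⁆⁆ * ⁅b', b⁆ := by
        simp only [commutatorElement_def]; group
    _ = ⁅b', b⁆ * ⁅b', b⁆ * ⁅b, ⁅b', b⁆⁆ := by rw [mul_assoc, h1, ← mul_assoc]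

theorem Q_mul {b b' : G} (hb : b ∈ M) (hb' : b' ∈ M) :
    Q D (b * b') = Q D b + Q D b' + C D b' b := by
  have hz := com_mem P hb' hb
  set z := ⁅b', b⁆ with hzd
  have hz4 := P.Y4 _ hz
  have hu : b * z * b⁻¹ ∈ X := norm_mem P hb hz
  have hv := P.sqX b hb
  have hw := P.sqX b' hb'
  have h1 : (b * b') * (b * b') = (b * z * b⁻¹) * (b * b) * (b' * b') := by
    rw [hzd, commutatorElement_def]; group
  have h2 : (b * z * b⁻¹) * (b * z * b⁻¹) = z * z := by
    have h3 := D.comm_of_sq hz4 b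
    calc (b * z * b⁻¹) * (b * z * b⁻¹) = b * (z * z) * b⁻¹ := by group
      _ = z * z := by rw [← h3]; group
  set u := b * z * b⁻¹
  set v := b * b
  set w := b' * b'
  have h3 : (u * v * w) * (u * v * w) = (v * v) * (w * w) * (z * z) := by
    rw [← h2]
    have e1 := P.Yc u hu v hv
    have e2 := P.Yc w hw u hu
    have e3 := P.Yc w hw v hv
    calc (u * v * w) * (u * v * w) = u * v * (w * u) * v * w := by group
      _ = u * v * u * (w * v) * w := by rw [e2]; group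
      _ = (u * v) * u * v * w * w := by rw [e3]; group
      _ = v * (u * u) * v * w * w := by rw [e1]; group
      _ = v * v * (u * u) * (w * w) := by
          have e4 := P.Yc (u * u) (X.mul_mem hu hu) v hv
          calc v * (u * u) * v * w * w = v * ((u * u) * v) * w * w := by group
            _ = _ := by rw [e4]; group
      _ = v * v * (w * w) * (u * u) := by
          have e5 := P.Yc (u * u) (X.mul_mem hu hu) (w * w) (X.mul_mem hw hw)
          rw [mul_assoc, e5, ← mul_assoc]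
  rw [Q, h1, h3, D.lg_mul (D.sq_mul (P.Y4 v hv) (P.Y4 w hw)) hz4, D.lg_mul (P.Y4 v hv) (P.Y4 w hw)]
  rfl

theorem C_mul_right {b b' b'' : G} (hb : b ∈ M) (hb' : b' ∈ M) (hb'' : b'' ∈ M) :
    C D b (b' * b'') = C D b b' + C D b b'' := by
  have hy := com_mem P hb hb'
  have hz := com_mem P hb hb''
  have hy4 := P.Y4 _ hy
  have hz4 := P.Y4 _ hz
  rw [C, C, C, ← D.lg_mul hy4 hz4]
  congr 1
  have h1 : ⁅b, b' * b''⁆ = ⁅b, b'⁆ * (b' * ⁅b, b''⁆ * b'⁻¹) := by
    simp only [commutatorElement_def]; group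
  have hu := norm_mem P hb' hz
  have h2 := P.Yc _ hu _ hy
  have h3 := D.comm_of_sq hz4 b'
  set y := ⁅b, b'⁆
  set z := ⁅b, b''⁆
  rw [h1]
  calc y * (b' * z * b'⁻¹) * (y * (b' * z * b'⁻¹))
      = y * ((b' * z * b'⁻¹) * y) * (b' * z * b'⁻¹) := by group
    _ = y * y * (b' * (z * z) * b'⁻¹) := by rw [h2]; group
    _ = y * y * (z * z) := by rw [← h3]; group

theorem C_mul_left {b b' b'' : G} (hb : b ∈ M) (hb' : b' ∈ M) (hb'' : b'' ∈ M) :
    C D (b * b') b'' = C D b b'' + C D b' b'' := by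
  rw [C_symm P (M.mul_mem hb hb') hb'', C_mul_right P hb'' hb hb', C_symm P hb'' hb,
    C_symm P hb'' hb']

theorem C_one (b : G) : C D b 1 = 0 := by
  rw [C, commutatorElement_one_right, mul_one, D.lg_one]

theorem C_of_mem {b x : G} (hb : b ∈ M) (hx : x ∈ X) : C D b x = 0 := by
  rw [C, P.com b hb x hx, D.lg_one]

theorem Q_of_mem {x : G} (hx : x ∈ X) : Q D x = 0 := by
  rw [Q, P.Y4 x hx, D.lg_one]

theorem C_inv_right {b b' : G} (hb : b ∈ M) (hb' : b' ∈ M) : C D b b'⁻¹ = - C D b b' := by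
  have h := C_mul_right P hb hb' (M.inv_mem hb')
  rw [mul_inv_cancel, C_one P] at h
  exact (neg_eq_of_add_eq_zero_right h.symm).symm

variable {H : Subgroup (MulAut G)} {h0 : MulAut G} {l : F}
  (A : HData D H h0 l) (hM : Inv H M) (hX : Inv H X) [Finite G] [Finite F] [CharP F 2]

theorem Q_typed {b : G} (hb : b ∈ M) {a : F} {σ : F ≃+* F} (h : ∀ x, P.bet b x = a * σ x) :
    Q D b = 0 := by
  by_cases ha : a = 0
  · apply Q_of_mem P
    apply P.mem_X_of_bet hb
    intro x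
    rw [h, ha, zero_mul]
  · have h1 := bet_Q P hb
    rw [h] at h1
    have h2 := (mul_eq_zero.mp h1).resolve_left ha
    simpa using h2

theorem C_typed_same {b b' : G} (hb : b ∈ M) (hb' : b' ∈ M) {a a' : F} {σ : F ≃+* F}
    (h : ∀ x, P.bet b x = a * σ x) (h' : ∀ x, P.bet b' x = a' * σ x) : C D b' b = 0 := by
  have h1 := Q_mul P hb hb'
  have h2 : ∀ x, P.bet (b * b') x = (a + a') * σ x := by
    intro x
    rw [P.bet_mul hb hb', h, h', add_mul]
  rw [Q_typed P (M.mul_mem hb hb') h2, Q_typed P hb h, Q_typed P hb' h', zero_add, zero_add] at h1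
  exact h1.symm

theorem C_typed_eq {b b' : G} (hb : b ∈ M) (hb' : b' ∈ M) {a : F} {σ : F ≃+* F}
    (h : ∀ x, P.bet b x = a * σ x) : C D b' b = a * σ (C D b' b) := by
  have h1 := bet_Q' P hb hb'
  rw [Q_typed P hb h, h] at h1
  have h2 : P.bet b' 0 = 0 := by
    have := P.bet_add hb' 0 0
    rw [add_zero] at this
    exact left_eq_add.mp this
  rw [h2] at h1
  have h3 : C D b' b = - (a * σ (C D b' b)) := eq_neg_of_add_eq_zero_left h1.symm
  rw [CharTwo.neg_eq] at h3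
  exact h3

include A hM hX

theorem not_fix_of_C {b b' : G} (hb : b ∈ M) (hb' : b' ∈ M) {a : F} {σ : F ≃+* F}
    (h : ∀ x, P.bet b x = a * σ x) (hC : C D b' b ≠ 0) : ∃ x, σ x ≠ x := by
  by_contra hcon
  push Not at hcon
  apply hC
  apply C_of_mem P hb'
  apply scal A P hM hX hX hb (a := a)
  intro y
  rw [h, hcon]

theorem C_typed {b b' : G} (hb : b ∈ M) (hb' : b' ∈ M) {a a' : F} {φ ψ : F ≃+* F}
    (h : ∀ x, P.bet b x = a * φ x) (h' : ∀ x, P.bet b' x = a' * ψ x) : C D b' b = 0 := by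
  classical
  by_contra hf0
  have hφ := not_fix_of_C P A hM hX hb hb' h hf0
  have hψ := not_fix_of_C P A hM hX hb' hb h' (by rw [C_symm P hb hb']; exact hf0)
  set f0 := C D b' b with hf0d
  -- the set of the coefficients
  set S : Set F := {a1 | ∃ b1 ∈ M, ∀ x, P.bet b1 x = a1 * φ x} with hS
  have hS0 : (0 : F) ∈ S := ⟨1, M.one_mem, fun x => by rw [P.bet_one, zero_mul]⟩
  have hSf : ∀ f : F, f ≠ 0 → f / φ f ∈ S := by
    intro f hf
    obtain ⟨h1, h1H, h1e⟩ := A.tr f0 f hf0 hf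
    obtain ⟨c, θ, hc, hcθ⟩ := A.semi h1 h1H
    have hfc : c * θ f0 = f := by
      rw [hcθ] at h1e
      exact D.inj h1e
    have hb1 := hM _ h1H _ hb
    have hb1' := hM _ h1H _ hb'
    have htype : ∀ x, P.bet (h1 b) x = (c * θ a * (φ c)⁻¹) * φ x := by
      intro x
      have h2 := P.bet_equiv (T := fun a => c * θ a) hcθ (hX _ h1H) (hM _ h1H) hb
        (θ.symm (c⁻¹ * x))
      simp only [RingEquiv.apply_symm_apply] at h2
      rw [mul_inv_cancel_left₀ hc, h, map_mul] at h2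
      rw [h2, A.comm θ φ, RingEquiv.apply_symm_apply, map_mul, map_inv₀]
      ring
    have hCf : C D (h1 b') (h1 b) = f := by
      rw [← hfc, C]
      have h3 : ⁅h1 b', h1 b⁆ = h1 ⁅b', b⁆ := by
        simp only [commutatorElement_def, map_mul, map_inv]
      rw [h3, ← map_mul, ← e_C P hb' hb, hcθ, D.lg_e]
    have h4 := C_typed_eq P hb1 hb1' htype
    rw [hCf] at h4
    have h5 : f / φ f = c * θ a * (φ c)⁻¹ := by
      have h6 : φ f ≠ 0 := by simpa using hf
      rw [div_eq_iff h6]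
      exact h4
    rw [h5]
    exact ⟨h1 b, hb1, htype⟩
  apply count_false φ ψ hφ hψ S hS0 hSf
  refine le_trans ?_ (card_sol_le ψ a')
  -- the injection
  choose g hg using fun s : S => s.2
  refine Set.ncard_le_ncard_of_injOn (fun a1 => if hs : a1 ∈ S then C D b' (g ⟨a1, hs⟩) else 0) ?_ ?_
    (Set.toFinite _)
  · intro a1 ha1
    simp only [dif_pos ha1]
    change C D b' (g ⟨a1, ha1⟩) = a' * ψ (C D b' (g ⟨a1, ha1⟩))
    rw [C_symm P hb' (hg ⟨a1, ha1⟩).1]
    exact C_typed_eq P hb' (hg ⟨a1, ha1⟩).1 h'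
  · intro a1 ha1 a2 ha2 h12
    simp only [dif_pos ha1, dif_pos ha2] at h12
    have hg1 := hg ⟨a1, ha1⟩
    have hg2 := hg ⟨a2, ha2⟩
    have key : ∀ (a3 : F) (b3 : G), b3 ∈ M → (∀ x, P.bet b3 x = a3 * φ x) → C D b' b3 ≠ 0 →
        a3 = C D b' b3 / φ (C D b' b3) := by
      intro a3 b3 hb3 h3 hC3
      have h6 : φ (C D b' b3) ≠ 0 := by simpa using hC3
      rw [eq_div_iff h6]
      exact (C_typed_eq P hb3 hb' h3).symm
    have key0 : ∀ (a3 : F) (b3 : G), b3 ∈ M → (∀ x, P.bet b3 x = a3 * φ x) → C D b' b3 = 0 →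
        a3 = 0 := by
      intro a3 b3 hb3 h3 hC3
      have h7 : C D b' (b3 * b) = f0 := by rw [C_mul_right P hb' hb3 hb, hC3, zero_add]
      have h8 := key (a3 + a) (b3 * b) (M.mul_mem hb3 hb) (by
        intro x; rw [P.bet_mul hb3 hb, h3, h, add_mul]) (by rw [h7]; exact hf0)
      have h9 := key a b hb h hf0
      rw [h7] at h8
      rw [← hf0d] at h9
      rw [← h9] at h8
      exact add_eq_right.mp h8
    by_cases hC1 : C D b' (g ⟨a1, ha1⟩) = 0
    · rw [key0 a1 _ hg1.1 hg1.2 hC1, key0 a2 _ hg2.1 hg2.2 (by rw [← h12]; exact hC1)]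
    · rw [key a1 _ hg1.1 hg1.2 hC1, key a2 _ hg2.1 hg2.2 (by rw [← h12]; exact hC1), h12]

theorem C_eq_zero {b b' : G} (hb : b ∈ M) (hb' : b' ∈ M) : C D b' b = 0 := by
  -- first for typed `b'`
  have step : ∀ b' ∈ M, (∀ b ∈ M, ∀ (a : F) (σ : F ≃+* F), (∀ x, P.bet b x = a * σ x) → C D b' b = 0) →
      ∀ b ∈ M, C D b' b = 0 := by
    intro b' hb' hty
    let K : Subgroup G :=
      { carrier := {b | b ∈ M ∧ C D b' b = 0}
        one_mem' := ⟨M.one_mem, C_one P b'⟩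
        mul_mem' := fun {x y} hx hy => ⟨M.mul_mem hx.1 hy.1, by
          rw [C_mul_right P hb' hx.1 hy.1, hx.2, hy.2, add_zero]⟩
        inv_mem' := fun {x} hx => ⟨M.inv_mem hx.1, by
          rw [C_inv_right P hb' hx.1, hx.2, neg_zero]⟩ }
    have hKM : M ≤ K := by
      apply le_of_typed A P hM hX
      · intro x hx
        exact ⟨P.XM hx, C_of_mem P hb' hx⟩
      · intro x hx; exact hx.1
      · intro b hb a σ h
        exact ⟨hb, hty b hb a σ h⟩
    intro b hb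
    exact (hKM hb).2
  apply step b' hb' ?_ b hb
  intro b1 hb1 a σ h1
  rw [C_symm P hb' hb1]
  apply step b1 hb1 ?_ b' hb'
  intro b2 hb2 a2 σ2 h2
  exact C_typed P A hM hX hb2 hb1 h2 h1

/-- The fourth powers are trivial. -/
theorem pow_four {b : G} (hb : b ∈ M) : (b * b) * (b * b) = 1 := by
  have hQ : ∀ b ∈ M, ∀ b' ∈ M, Q D (b * b') = Q D b + Q D b' := by
    intro b hb b' hb'
    rw [Q_mul P hb hb', C_eq_zero P A hM hX hb hb', add_zero]
  have hQ1 : Q D 1 = 0 := Q_of_mem P X.one_mem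
  let K : Subgroup G :=
    { carrier := {b | b ∈ M ∧ Q D b = 0}
      one_mem' := ⟨M.one_mem, hQ1⟩
      mul_mem' := fun {x y} hx hy => ⟨M.mul_mem hx.1 hy.1, by
        rw [hQ _ hx.1 _ hy.1, hx.2, hy.2, add_zero]⟩
      inv_mem' := fun {x} hx => ⟨M.inv_mem hx.1, by
        have h := hQ _ hx.1 _ (M.inv_mem hx.1)
        rw [mul_inv_cancel, hQ1, hx.2, zero_add] at h
        exact h.symm⟩ }
  have hKM : M ≤ K := by
    apply le_of_typed A P hM hX
    · intro x hx
      exact ⟨P.XM hx, Q_of_mem P hx⟩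
    · intro x hx; exact hx.1
    · intro b hb a σ h
      exact ⟨hb, Q_typed P hb h⟩
  exact D.eq_one_of_lg (P.Y4 _ (P.sqX b hb)) (hKM hb).2

end Four

end Cfsg.Agent.H448.Suz
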